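import Cfsg.Agent.Lib.FusionCertN.McLData
import Cfsg.Agent.Lib.Schur.McL.Els

/-!
The named elements of McL are products of the two generators.
-/

set_option autoImplicit false

namespace CfsgLib.SchurMcL

open CfsgLib.FusionCertN CfsgLib.SchurTail

/-- The code of a named element. -/
def el (k : ℕ) : ℕ := els.get k

/-- Each named element is a product of two earlier ones. -/
def elsCheck : Bool :=
  (el 0 == McL.genA) && ((el 1 == McL.genB) &&
  (List.range numEls).all fun k => Nat.blt k 2 ||
    (Nat.blt (lineOps.get k).1 k && (Nat.blt (lineOps.get k).2 k &&
      (mulC (el (lineOps.get k).1) (el (lineOps.get k).2) == el k))))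

theorem els_true : elsCheck = true := by decide +kernel

end CfsgLib.SchurMcL
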