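import Cfsg.Agent.Lib.FusionCertN.McL
import Cfsg.Agent.Lib.Schur.McL.ElsCheck
import Cfsg.Agent.Lib.Schur.McL.Els
import Cfsg.Agent.Lib.Schur.TailCollect

/-!
Named elements of McL as coded permutations of 275 points.
-/

set_option autoImplicit false

namespace CfsgLib.SchurMcL

open Cfsg CfsgLib.FusionCertN CfsgLib.FusionCertN.LeechRep CfsgLib.SchurTail

theorem exists_X : ∀ k, k < numEls → ∃ g : mclGroup, code (ρ g) = el k := by
  have h := els_true
  simp only [elsCheck, Bool.and_eq_true, beq_iff_eq, List.all_eq_true, List.mem_range,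
    Bool.or_eq_true, Nat.blt_eq] at h
  obtain ⟨hA, hB, hl⟩ := h
  have hb : Leech.Stab.slpB Leech.Stab.mcL275Slp = true := by
    have h := Leech.Stab.mcL275_base
    simp only [Leech.Stab.Cert.baseB, Bool.and_eq_true] at h
    exact h.1.1.1.1
  intro k
  induction k using Nat.strong_induction_on with
  | _ k ih =>
    intro hk
    rcases hl k hk with h2 | ⟨h1, h2, h3⟩
    · rcases (by omega : k = 0 ∨ k = 1) with rfl | rfl
      · rw [hA]; exact exists_gen hb (by rw [McL.slp_length]; norm_num) McL.genA_check
      · rw [hB]; exact exists_gen hb (by rw [McL.slp_length]; norm_num) McL.genB_check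
    · obtain ⟨a, ha⟩ := ih _ h1 (h1.trans hk)
      obtain ⟨b, hb'⟩ := ih _ h2 (h2.trans hk)
      exact ⟨a * b, by rw [map_mul, code_mul, ha, hb', h3]⟩

/-- The named elements. -/
noncomputable def X (k : ℕ) : mclGroup :=
  if h : k < numEls then (exists_X k h).choose else 1

theorem code_X {k : ℕ} (h : k < numEls) : code (ρ (X k)) = el k := by
  rw [X, dif_pos h]; exact (exists_X k h).choose_spec

theorem rho_inj {a b : mclGroup} (h : code (ρ a) = code (ρ b)) : a = b :=
  ρ_injective (code_injective h)

/-- The code of a word. -/
def codeW : List ℕ → ℕ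
  | [] => idC
  | [a] => el a
  | a :: b :: w => mulC (el a) (codeW (b :: w))

attribute [local irreducible] code mulC enc in
theorem code_word : ∀ w : List ℕ, (∀ a ∈ w, a < numEls) → code (ρ (evW X w)) = codeW w
  | [], _ => by rw [evW_nil, map_one, code_one]; rfl
  | [a], h => by rw [evW_cons, evW_nil, mul_one, code_X (h a (by simp))]; rfl
  | a :: b :: w, h => by
    rw [evW_cons, map_mul, code_mul, code_X (h a (by simp)),
      code_word (b :: w) fun c hc => h c (List.mem_cons_of_mem _ hc)]
    rfl

/-- Two words have the same value. -/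
def eqB (v w : List ℕ) : Bool :=
  ((v ++ w).all fun a => Nat.blt a numEls) && (codeW v == codeW w)

theorem eq_of_eqB {v w : List ℕ} (h : eqB v w = true) : evW X v = evW X w := by
  simp only [eqB, Bool.and_eq_true, List.all_eq_true, Nat.blt_eq, beq_iff_eq] at h
  exact rho_inj (by rw [code_word v fun a ha => h.1 a (List.mem_append_left _ ha),
    code_word w fun a ha => h.1 a (List.mem_append_right _ ha), h.2])

/-- The image of a point under a product of coded permutations. -/
def appList (cs : List ℕ) (i : ℕ) : ℕ := cs.foldr app i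

/-- The images of the base points, packed. -/
def keyList (cs : List ℕ) : ℕ := enc (fun k => appList cs (base.getD k 0)) base.length

/-- The key of a permutation. -/
noncomputable def key (σ : Equiv.Perm (Fin 275)) : ℕ := keyList [code σ]

theorem base_lt (k : ℕ) : base.getD k 0 < 275 := by
  by_cases h : k < base.length
  · rw [List.getD_eq_getElem _ _ h]
    have : ∀ x ∈ base, x < 275 := by decide
    exact this _ (List.getElem_mem _)
  · rw [List.getD_eq_default _ _ (Nat.le_of_not_lt h)]; norm_num

attribute [local irreducible] code mulC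

theorem appList_code : ∀ (gs : List mclGroup) {i : ℕ} (hi : i < 275),
    appList (gs.map fun g => code (ρ g)) i = (ρ gs.prod ⟨i, hi⟩ : ℕ)
  | [], i, hi => by rw [List.map_nil, List.prod_nil, map_one, Equiv.Perm.one_apply]; exact List.foldr_nil ..
  | g :: gs, i, hi => by
    have h := appList_code gs hi
    rw [appList] at h ⊢
    rw [List.map_cons, List.foldr_cons, h, app_code, List.prod_cons, map_mul, Equiv.Perm.mul_apply]

theorem appList_single (σ : Equiv.Perm (Fin 275)) {i : ℕ} (hi : i < 275) :
    appList [code σ] i = (σ ⟨i, hi⟩ : ℕ) := by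
  rw [appList, List.foldr_cons, List.foldr_nil]
  exact app_code σ ⟨i, hi⟩

theorem keyList_congr {cs ds : List ℕ}
    (h : ∀ i, i < 275 → appList cs i = appList ds i) : keyList cs = keyList ds :=
  enc_congr fun k _ => h _ (base_lt k)

theorem key_prod (gs : List mclGroup) :
    key (ρ gs.prod) = keyList (gs.map fun g => code (ρ g)) :=
  keyList_congr fun i hi => (appList_single (ρ gs.prod) hi).trans (appList_code gs hi).symm

theorem map_code_X : ∀ w : List ℕ, (∀ a ∈ w, a < numEls) →
    (w.map X).map (fun g => code (ρ g)) = w.map el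
  | [], _ => by rw [List.map_nil, List.map_nil, List.map_nil]
  | a :: w, h => by
    rw [List.map_cons, List.map_cons, List.map_cons,
      map_code_X w fun b hb => h b (List.mem_cons_of_mem _ hb),
      code_X (h a (List.mem_cons_self ..))]

theorem key_evW (w : List ℕ) (h : ∀ a ∈ w, a < numEls) :
    key (ρ (evW X w)) = keyList (w.map el) :=
  (key_prod (w.map X)).trans (congrArg keyList (map_code_X w h))

end CfsgLib.SchurMcL
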