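import Cfsg.Agent.Lib.Schur.McL.Lift

/-!
A stem extension of McL by a group of order 3, corestricted from a Sylow 3-subgroup.
-/

set_option autoImplicit false

namespace CfsgLib.SchurMcL

open Cfsg CfsgLib CfsgLib.FusionCertN CfsgLib.FusionCertN.LeechRep CfsgLib.SchurTail Subgroup
open CfsgLib.Leech.Stab

attribute [local irreducible] code codeS mulC mulS

/-! ### The Sylow subgroup -/

/-- The Sylow 3-subgroup. -/
noncomputable def U : Subgroup mclGroup := (hat.map (MonoidHom.fst _ _)).comap ρ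

theorem mem_U {g : mclGroup} : g ∈ U ↔ ∃ x ∈ hat, x.1 = ρ g := by
  rw [U, mem_comap, mem_map]; rfl

theorem exists_index {g : mclGroup} (hg : g ∈ U) : ∃ y, y < 729 ∧ code (ρ g) = liftOne.get y := by
  obtain ⟨x, hx, e⟩ := mem_U.1 hg
  obtain ⟨y, hy, j, -, f, -, f1, -, rfl⟩ := lift_mem_hat hx
  rw [Prod.fst_mul, zeta_pow_fst, mul_one] at e
  exact ⟨y, hy, by rw [← e, f1]⟩

theorem index_of_key {g : mclGroup} {y : ℕ} (hy : y < 729) (h : code (ρ g) = liftOne.get y) :
    findLift.get (key (ρ g)) = y := by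
  rw [key, h]; exact (tree_facts hy).2.1

theorem not_mem_of_notIn {g : mclGroup} (h : notIn (key (ρ g)) = true) : g ∉ U := by
  intro hg
  obtain ⟨y, hy, e⟩ := exists_index hg
  have hk := index_of_key hy e
  rw [notIn, hk, ← e, show keyList [code (ρ g)] = key (ρ g) from rfl] at h
  simp at h

theorem card_U : Nat.card U = 729 := by
  have hex : ∀ y : Fin 729, ∃ g : U, code (ρ (g : mclGroup)) = liftOne.get y := by
    intro y
    obtain ⟨x, hx, ⟨g, hg⟩, h1, -⟩ := exists_lift_elt y y.2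
    exact ⟨⟨g, mem_U.2 ⟨x, hx, hg⟩⟩, by rw [← hg, h1]⟩
  choose f hf using hex
  rw [← Nat.card_congr (Equiv.ofBijective f ⟨fun y z e => ?_, fun g => ?_⟩), Nat.card_fin]
  · exact Fin.ext (by rw [← index_of_key y.2 (hf y), ← index_of_key z.2 (hf z), e])
  · obtain ⟨y, hy, e⟩ := exists_index g.2
    exact ⟨⟨y, hy⟩, Subtype.ext (rho_inj ((hf ⟨y, hy⟩).trans e.symm))⟩

theorem index_U : U.index = 1232000 := by
  have h := U.card_mul_index
  rw [card_U, show Nat.card mclGroup = 898128000 from isMcL.2] at h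
  omega

/-! ### The cocycle -/

/-- The kernel of the triple cover. -/
noncomputable def inclZ (z : ZMod 3) : PP := zeta ^ z.val

theorem inclZ_add (a b : ZMod 3) : inclZ (a + b) = inclZ a * inclZ b := by
  rw [inclZ, inclZ, inclZ, ZMod.val_add, ← pow_add, ← pow_eq_pow_mod _ zeta_pow_three]

theorem inclZ_zero : inclZ 0 = 1 := by rw [inclZ, ZMod.val_zero, pow_zero]

theorem inclZ_injective : Function.Injective inclZ := by
  have h3 : orderOf zeta = 3 :=
    orderOf_eq_prime zeta_pow_three zeta_ne_one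
  intro a b h
  have := pow_inj_mod.1 (h : zeta ^ a.val = zeta ^ b.val)
  rw [h3, Nat.mod_eq_of_lt a.val_lt, Nat.mod_eq_of_lt b.val_lt] at this
  exact ZMod.val_injective 3 this

theorem inclZ_mem (z : ZMod 3) : inclZ z ∈ hat := pow_mem zeta_mem _

theorem inclZ_comm {x : PP} (hx : x ∈ hat) (z : ZMod 3) : inclZ z * x = x * inclZ z :=
  zeta_pow_comm hx _

theorem exists_inclZ {x : PP} (hx : x ∈ hat) (h : x.1 = 1) : ∃ z, x = inclZ z := by
  obtain ⟨y, hy, j, hj, e, -, e1, e2, rfl⟩ := lift_mem_hat hx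
  rw [Prod.fst_mul, zeta_pow_fst, mul_one] at h
  have h0 : y = 0 := by
    have k1 := (tree_facts hy).2.1
    have k2 := (tree_facts (show 0 < 729 by norm_num)).2.1
    rw [← k1, ← e1, h, code_one, ← gens_facts.2.2.2.2.1, k2]
  subst h0
  refine ⟨(j : ZMod 3), ?_⟩
  have he : e = 1 := pp_ext (by rw [e1, Prod.fst_one, code_one, gens_facts.2.2.2.2.1])
    (by rw [e2, Prod.snd_one, codeS_one, gens_facts.2.2.2.2.2])
  rw [he, one_mul, inclZ, ZMod.val_natCast, Nat.mod_eq_of_lt hj]

theorem exists_sect (g : U) : ∃ x ∈ hat, x.1 = ρ (g : mclGroup) := mem_U.1 g.2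

open scoped Classical in
/-- A section. -/
noncomputable def sect (g : U) : PP := if g = 1 then 1 else (exists_sect g).choose

theorem sect_mem (g : U) : sect g ∈ hat := by
  rw [sect]; split
  · exact one_mem _
  · exact (exists_sect g).choose_spec.1

theorem sect_fst (g : U) : (sect g).1 = ρ (g : mclGroup) := by
  rw [sect]; split
  · next h => rw [h, Subgroup.coe_one, map_one, Prod.fst_one]
  · exact (exists_sect g).choose_spec.2

theorem sect_one : sect 1 = 1 := by rw [sect, if_pos rfl]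

theorem exists_fac (g : U) {x : PP} (hx : x ∈ hat) (h : x.1 = ρ (g : mclGroup)) :
    ∃ z, x = sect g * inclZ z := by
  obtain ⟨z, hz⟩ := exists_inclZ (mul_mem (inv_mem (sect_mem g)) hx)
    (by rw [Prod.fst_mul, Prod.fst_inv, sect_fst, h, inv_mul_cancel])
  exact ⟨z, by rw [← hz, mul_inv_cancel_left]⟩

theorem exists_fac_mul (g h : U) : ∃ z, sect g * sect h = sect (g * h) * inclZ z :=
  exists_fac _ (mul_mem (sect_mem g) (sect_mem h))
    (by rw [Prod.fst_mul, sect_fst, sect_fst, Subgroup.coe_mul, map_mul])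

/-- The values of the cocycle. -/
noncomputable def fac (g h : U) : ZMod 3 := (exists_fac_mul g h).choose

theorem sect_mul (g h : U) : sect g * sect h = sect (g * h) * inclZ (fac g h) :=
  (exists_fac_mul g h).choose_spec

theorem fac_unique {g h : U} {z : ZMod 3} (e : sect g * sect h = sect (g * h) * inclZ z) :
    fac g h = z := inclZ_injective (mul_left_cancel ((sect_mul g h).symm.trans e))

/-- The cocycle of the triple cover. -/
noncomputable def cocycle : SchurCor.Cocycle U (ZMod 3) where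
  f := fac
  one_left g := fac_unique (by rw [sect_one, one_mul, one_mul, inclZ_zero, mul_one])
  one_right g := fac_unique (by rw [sect_one, mul_one, mul_one, inclZ_zero, mul_one])
  assoc g h k := by
    have e1 : sect g * sect h * sect k = sect (g * h * k) * inclZ (fac g h + fac (g * h) k) := by
      rw [sect_mul, mul_assoc, inclZ_comm (sect_mem k), ← mul_assoc, sect_mul, mul_assoc,
        ← inclZ_add, add_comm]
    have e2 : sect g * sect h * sect k = sect (g * h * k) * inclZ (fac h k + fac g (h * k)) := by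
      rw [mul_assoc, sect_mul, ← mul_assoc, sect_mul, mul_assoc, ← inclZ_add, mul_assoc g,
        add_comm]
    exact inclZ_injective (mul_left_cancel (e1.symm.trans e2))

theorem comm_value {a b : U} (hab : a * b = b * a) {A B : PP} (hA : A ∈ hat) (hB : B ∈ hat)
    (eA : A.1 = ρ (a : mclGroup)) (eB : B.1 = ρ (b : mclGroup)) {w : ZMod 3}
    (h : A * B = B * A * inclZ w) : cocycle.f a b - cocycle.f b a = w := by
  obtain ⟨α, rfl⟩ := exists_fac a hA eA
  obtain ⟨β, rfl⟩ := exists_fac b hB eB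
  have key : ∀ (c d : U) (γ δ : ZMod 3), sect c * inclZ γ * (sect d * inclZ δ) =
      sect (c * d) * inclZ (fac c d + γ + δ) := by
    intro c d γ δ
    rw [mul_assoc, ← mul_assoc (inclZ γ), inclZ_comm (sect_mem d), mul_assoc, ← mul_assoc,
      sect_mul, mul_assoc, ← inclZ_add, ← inclZ_add, add_assoc]
  rw [key, key, mul_assoc, ← inclZ_add, hab] at h
  have := inclZ_injective (mul_left_cancel h)
  show fac a b - fac b a = w
  linear_combination this

/-! ### The stabiliser of two points -/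

/-- The stabiliser of the base pair. -/
noncomputable def L : Subgroup mclGroup :=
  (MulAction.stabilizer (Equiv.Perm (Fin 275)) (⟨i0, by decide⟩ : Fin 275) ⊓
    MulAction.stabilizer (Equiv.Perm (Fin 275)) (⟨j0, by decide⟩ : Fin 275)).comap ρ

theorem mem_L {g : mclGroup} :
    g ∈ L ↔ app (code (ρ g)) i0 = i0 ∧ app (code (ρ g)) j0 = j0 := by
  rw [L, mem_comap, mem_inf, MulAction.mem_stabilizer_iff, MulAction.mem_stabilizer_iff,
    Equiv.Perm.smul_def, Equiv.Perm.smul_def, Fin.ext_iff, Fin.ext_iff,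
    ← app_code, ← app_code]

theorem U_le_L : U ≤ L := by
  intro g hg
  obtain ⟨y, hy, e⟩ := exists_index hg
  rw [mem_L, e]
  exact (tree_facts hy).2.2

/-- The scalar product of two points. -/
noncomputable def dotP (i j : Fin 275) : ℤ :=
  dotInt ((pt i).1 : GolayPt → ℤ) ((pt j).1 : GolayPt → ℤ)

theorem dotP_rho (g : mclGroup) (i j : Fin 275) : dotP (ρ g i) (ρ g j) = dotP i j := by
  rw [dotP, dotP, ρ_apply, ρ_apply]
  exact Leech.dotInt_smul (g : Co0) _ _

theorem latB_nth {i : ℕ} (hi : i < 275) : latB (nth i) = true := by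
  have h := List.all_eq_true.1 codes_check.1 _ (nth_mem hi)
  simp only [Bool.and_eq_true] at h
  exact h.1.1

theorem dotP_eq (i j : Fin 275) : dotP i j = dotC i j := by
  rw [dotC, ← dot_lat (latB_nth i.2) (latB_nth j.2)]
  rfl

theorem pair_facts : idxU < numEls ∧ idxV < numEls ∧ eqB [idxU, idxV] [idxV, idxU] = true ∧
    eqB [idxU, idxU, idxU] [] = true ∧ eqB [idxV, idxV, idxV] [] = true ∧ dotC i0 j0 = 8 ∧
    ∀ i, i < 275 → fixUV i = true → ∀ j, j < 275 → fixUV j = true → dotC i j = 8 →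
      ∃ q ∈ pairReps, app (el q.1) i0 = i ∧ app (el q.1) j0 = j := by
  have h := pair_true
  simp only [pairCheck, Bool.and_eq_true, List.all_eq_true, List.mem_range, Nat.blt_eq,
    beq_iff_eq, Bool.or_eq_true, List.any_eq_true, Bool.not_eq_true'] at h
  obtain ⟨h1, h2, h3, h4, h5, h6, h7⟩ := h
  refine ⟨h1, h2, h3, h4, h5, h6, fun i hi hfi j hj hfj hd => ?_⟩
  rcases h7 i hi with h8 | h8
  · rw [hfi] at h8; exact absurd h8 (by simp)
  rcases h8 j hj with h9 | h9 | ⟨q, hq, e1, e2⟩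
  · rw [hfj] at h9; exact absurd h9 (by simp)
  · rw [beq_eq_false_iff_ne] at h9; exact absurd hd h9
  · exact ⟨q, hq, Nat.eq_of_beq_eq_true e1, Nat.eq_of_beq_eq_true e2⟩

theorem dot_base : dotP ⟨i0, by decide⟩ ⟨j0, by decide⟩ = 8 := by
  rw [dotP_eq]; exact pair_facts.2.2.2.2.2.1

theorem norm_base : sqNorm (ptU : GolayPt → ℤ) = 48 ∧ (sqNorm (ptV : GolayPt → ℤ) = 32 ∧
    sqNorm ((ptU : GolayPt → ℤ) - (ptV : GolayPt → ℤ)) = 32) :=
  ⟨pt_dots.1, pt_dots.2.1, (norm_sub_iff pt_dots.1 pt_dots.2.1).2 pt_dots.2.2.2.2.2.1⟩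

theorem mclSet_iff {x : leechLattice} : x ∈ mclSet ptU ptV ↔ x ∈ mcL275Cert.set := by
  have h := smul_mem_mcl norm_base.1 (one_smul Co0 ptU) (one_smul Co0 ptV) x
  rw [one_smul] at h
  exact h.symm

theorem card_nbrs (i : Fin 275) : Nat.card {j // dotP i j = 8} = 112 := by
  have h := (mcl_rank_three norm_base.1 norm_base.2 (mclSet_iff.2 (pt i).2)).1
  rw [← Nat.card_coe_set_eq] at h
  rw [← h]
  refine Nat.card_congr (Equiv.ofBijective
    (fun j => (⟨(pt j.1).1, mclSet_iff.2 (pt j.1).2, j.2⟩ :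
      {y | y ∈ mclSet ptU ptV ∧
        dotInt ((pt i).1 : GolayPt → ℤ) (y : GolayPt → ℤ) = 8})) ⟨fun a b e => ?_, fun y => ?_⟩)
  · exact Subtype.ext (pt_injective (Subtype.ext (congrArg Subtype.val e :)))
  · obtain ⟨j, hj⟩ := pt_bijective.2 ⟨y.1, mclSet_iff.1 y.2.1⟩
    refine ⟨⟨j, ?_⟩, Subtype.ext (congrArg Subtype.val hj :)⟩
    show dotInt ((pt i).1 : GolayPt → ℤ) ((pt j).1 : GolayPt → ℤ) = 8
    rw [hj]; exact y.2.2

theorem exists_to_pair (i j : Fin 275) (h : dotP i j = 8) :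
    ∃ g : mclGroup, ρ g ⟨i0, by decide⟩ = i ∧ ρ g ⟨j0, by decide⟩ = j := by
  obtain ⟨g, gU, gV, gx⟩ := (mcl_transitive norm_base.1 norm_base.2).2 _
    (mclSet_iff.2 (pt ⟨i0, by decide⟩).2) _ (mclSet_iff.2 (pt i).2)
  let g' : mclGroup := ⟨g, gU, gV⟩
  have e1 : ρ g' ⟨i0, by decide⟩ = i :=
    pt_injective (by rw [ρ_apply]; exact Subtype.ext gx)
  have hd : dotP i (ρ g' ⟨j0, by decide⟩) = 8 := by
    rw [← e1, dotP_rho]; exact dot_base
  have hne : ∀ k, dotP i k = 8 → (pt k).1 ≠ (pt i).1 := by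
    intro k hk e
    rw [dotP, e, dotInt_self, ((mem_mcl.1 (pt i).2).1)] at hk
    norm_num at hk
  obtain ⟨k, kU, kV, kx, ky⟩ := (mcl_rank_three norm_base.1 norm_base.2
    (mclSet_iff.2 (pt i).2)).2.2 _ (mclSet_iff.2 (pt (ρ g' ⟨j0, by decide⟩)).2) _
    (mclSet_iff.2 (pt j).2) (hne _ hd) (hne _ h) (hd.trans h.symm)
  let k' : mclGroup := ⟨k, kU, kV⟩
  refine ⟨k' * g', ?_, ?_⟩
  · rw [map_mul, Equiv.Perm.mul_apply, e1]
    exact pt_injective (by rw [ρ_apply]; exact Subtype.ext kx)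
  · rw [map_mul, Equiv.Perm.mul_apply]
    exact pt_injective (by rw [ρ_apply]; exact Subtype.ext ky)

theorem index_L : 30800 ≤ L.index := by
  have : Finite mclGroup := Nat.finite_of_card_ne_zero (by rw [isMcL.2]; norm_num)
  choose g hg1 hg2 using exists_to_pair
  have hle := Nat.card_le_card_of_injective
    (fun p : Σ i, {j // dotP i j = 8} => (g p.1 p.2.1 p.2.2 : mclGroup ⧸ L)) fun p q e => by
      rw [QuotientGroup.eq, L, mem_comap, mem_inf, MulAction.mem_stabilizer_iff,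
        MulAction.mem_stabilizer_iff, Equiv.Perm.smul_def, Equiv.Perm.smul_def, map_mul, map_inv,
        Equiv.Perm.mul_apply, Equiv.Perm.mul_apply, Equiv.Perm.inv_eq_iff_eq, Equiv.Perm.inv_eq_iff_eq,
        hg1, hg1, hg2, hg2] at e
      obtain ⟨e1, e2⟩ := e
      obtain ⟨i, j, hj⟩ := p
      obtain ⟨i', j', hj'⟩ := q
      obtain rfl : i = i' := e1.symm
      obtain rfl : j = j' := e2.symm
      rfl
  rw [Nat.card_sigma, Finset.sum_congr rfl (fun i _ => card_nbrs i)] at hle
  simpa [Subgroup.index] using hle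

theorem trans_facts : (∀ q ∈ pairReps, eqB [q.2, q.1] [] = true) ∧
    (∀ t ∈ transversal, eqB [t.2, t.1] [] = true ∧ app (el t.1) i0 = i0 ∧ app (el t.1) j0 = j0) := by
  have h := inv_true
  simp only [invCheck, Bool.and_eq_true, List.all_eq_true] at h
  exact ⟨h.1, fun t ht => ⟨(h.2 t ht).1, Nat.eq_of_beq_eq_true (h.2 t ht).2.1,
    Nat.eq_of_beq_eq_true (h.2 t ht).2.2⟩⟩

theorem inverse_of_eqB {a b : ℕ} (h : eqB [a, b] [] = true) :
    X a = (X b)⁻¹ ∧ a < numEls ∧ b < numEls := by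
  have e := eq_of_eqB h
  rw [evW_cons, evW_cons, evW_nil, mul_one] at e
  simp only [eqB, Bool.and_eq_true, List.all_eq_true, Nat.blt_eq] at h
  exact ⟨eq_inv_of_mul_eq_one_left e, h.1 a (by simp), h.1 b (by simp)⟩

theorem exists_coset (g : mclGroup) (hg : g ∈ L) : ∃ t ∈ transversal, X t.2 * g ∈ U := by
  have : Finite mclGroup := Nat.finite_of_card_ne_zero (by rw [isMcL.2]; norm_num)
  have hsep := sep_true
  simp only [sepTrans, Bool.and_eq_true, List.all_eq_true, List.mem_range, Bool.or_eq_true] at hsep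
  obtain ⟨hlen, hsep⟩ := hsep
  replace hlen := Nat.eq_of_beq_eq_true hlen
  have hmem : ∀ k : Fin 40, transversal.getD k (0, 0) ∈ transversal := fun k => by
    rw [List.getD_eq_getElem _ _ (hlen.symm ▸ k.2)]; exact List.getElem_mem _
  have hX : ∀ t ∈ transversal, X t.1 ∈ L := fun t ht => by
    rw [mem_L, code_X (inverse_of_eqB (trans_facts.2 t ht).1).2.2]
    exact (trans_facts.2 t ht).2
  let φ : Fin 40 → L ⧸ U.subgroupOf L := fun k => ((⟨_, hX _ (hmem k)⟩ : L) : L ⧸ U.subgroupOf L)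
  have hinj : Function.Injective φ := by
    intro k m e
    by_contra hne
    rcases hsep k k.2 m m.2 with h | h
    · exact hne (Fin.ext (Nat.eq_of_beq_eq_true h))
    rw [QuotientGroup.eq, mem_subgroupOf, Subgroup.coe_mul, Subgroup.coe_inv,
      ← (inverse_of_eqB (trans_facts.2 _ (hmem k)).1).1] at e
    refine not_mem_of_notIn ?_ e
    have hk := key_evW [(transversal.getD k (0, 0)).2, (transversal.getD m (0, 0)).1] (by
      intro a ha
      simp only [List.mem_cons, List.not_mem_nil, or_false] at ha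
      rcases ha with rfl | rfl
      exacts [(inverse_of_eqB (trans_facts.2 _ (hmem k)).1).2.1,
        (inverse_of_eqB (trans_facts.2 _ (hmem m)).1).2.2])
    rw [evW_cons, evW_cons, evW_nil, mul_one, List.map_cons, List.map_cons, List.map_nil] at hk
    rw [hk]; exact h
  have hcard : Nat.card (L ⧸ U.subgroupOf L) ≤ 40 := by
    have h1 := (U.subgroupOf L).card_mul_index
    rw [Nat.card_congr (Subgroup.subgroupOfEquivOfLe U_le_L).toEquiv, card_U] at h1
    have h2 := L.card_mul_index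
    rw [show Nat.card mclGroup = 898128000 from isMcL.2] at h2
    have h3 := index_L
    show (U.subgroupOf L).index ≤ 40
    nlinarith
  have hbij : Function.Bijective φ := by
    refine (Nat.bijective_iff_injective_and_card φ).2 ⟨hinj, le_antisymm ?_ ?_⟩
    · exact Nat.card_le_card_of_injective φ hinj
    · rw [Nat.card_fin]; exact hcard
  obtain ⟨k, hk⟩ := hbij.2 ((⟨g, hg⟩ : L) : L ⧸ U.subgroupOf L)
  rw [QuotientGroup.eq, mem_subgroupOf, Subgroup.coe_mul, Subgroup.coe_inv,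
    ← (inverse_of_eqB (trans_facts.2 _ (hmem k)).1).1] at hk
  exact ⟨_, hmem k, hk⟩

/-! ### The commutator values -/

theorem fixed_of_conj {g : mclGroup} {c : ℕ} (hc : c < numEls) {a : mclGroup}
    (ha : a = g⁻¹ * X c * g) (haL : a ∈ L) (i : Fin 275) (hi : (i : ℕ) = i0 ∨ (i : ℕ) = j0) :
    app (el c) (ρ g i : ℕ) = (ρ g i : ℕ) := by
  have hfix : ρ a i = i := by
    rw [L, mem_comap, mem_inf, MulAction.mem_stabilizer_iff, MulAction.mem_stabilizer_iff] at haL
    rcases hi with hi | hi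
    · obtain rfl : i = ⟨i0, by decide⟩ := Fin.ext hi
      exact haL.1
    · obtain rfl : i = ⟨j0, by decide⟩ := Fin.ext hi
      exact haL.2
  rw [← code_X hc, app_code]
  congr 1
  have h : g * a = X c * g := by rw [ha]; group
  calc ρ (X c) (ρ g i) = ρ (g * a) i := by rw [h, map_mul, Equiv.Perm.mul_apply]
    _ = ρ g i := by rw [map_mul, Equiv.Perm.mul_apply, hfix]

theorem value_eq (g : mclGroup) (a b : U) (ha : (a : mclGroup) = g⁻¹ * X idxU * g)
    (hb : (b : mclGroup) = g⁻¹ * X idxV * g) :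
    cocycle.f a b - cocycle.f b a = (omega : ZMod 3) := by
  obtain ⟨hu, hv, huv, -, -, -, hpairs⟩ := pair_facts
  set I : Fin 275 := ⟨i0, by decide⟩
  set J : Fin 275 := ⟨j0, by decide⟩
  have hfixed : ∀ i : Fin 275, ((i : ℕ) = i0 ∨ (i : ℕ) = j0) → fixUV (ρ g i : ℕ) = true := by
    intro i hi
    rw [fixUV, fixed_of_conj hu ha (U_le_L a.2) i hi, fixed_of_conj hv hb (U_le_L b.2) i hi]
    simp
  have hd : dotC (ρ g I : ℕ) (ρ g J : ℕ) = 8 := by
    rw [← dotP_eq, dotP_rho]; exact dot_base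
  obtain ⟨q, hq, q1, q2⟩ := hpairs _ (ρ g I).2 (hfixed I (Or.inl rfl)) _ (ρ g J).2
    (hfixed J (Or.inr rfl)) hd
  obtain ⟨hqi, hq2, hq1⟩ := inverse_of_eqB (trans_facts.1 q hq)
  have hL : X q.2 * g ∈ L := by
    rw [L, mem_comap, mem_inf, MulAction.mem_stabilizer_iff, MulAction.mem_stabilizer_iff,
      Equiv.Perm.smul_def, Equiv.Perm.smul_def, map_mul, hqi, map_inv, Equiv.Perm.mul_apply,
      Equiv.Perm.mul_apply, Equiv.Perm.inv_eq_iff_eq, Equiv.Perm.inv_eq_iff_eq]
    exact ⟨Fin.ext (by rw [← app_code (ρ (X q.1)), code_X hq1, q1]),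
      Fin.ext (by rw [← app_code (ρ (X q.1)), code_X hq1, q2])⟩
  obtain ⟨t, ht, hp⟩ := exists_coset _ hL
  obtain ⟨hti, ht2, ht1⟩ := inverse_of_eqB (trans_facts.2 t ht).1
  set p : mclGroup := X t.2 * (X q.2 * g) with hpdef
  have hW : ∀ c : ℕ, evW X (conjWord q t c) = p * (g⁻¹ * X c * g) * p⁻¹ := by
    intro c
    simp only [conjWord, evW_cons, evW_nil, mul_one, hpdef, hti, hqi]
    group
  have hmemA : evW X (conjWord q t idxU) ∈ U := by
    rw [hW, ← ha]; exact mul_mem (mul_mem hp a.2) (inv_mem hp)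
  have hmemB : evW X (conjWord q t idxV) ∈ U := by
    rw [hW, ← hb]; exact mul_mem (mul_mem hp b.2) (inv_mem hp)
  have hlt : ∀ c, c < numEls → ∀ x ∈ conjWord q t c, x < numEls := by
    intro c hc x hx
    simp only [conjWord, List.mem_cons, List.not_mem_nil, or_false] at hx
    rcases hx with rfl | rfl | rfl | rfl | rfl <;> assumption
  obtain ⟨y, hy, ey⟩ := exists_index hmemA
  obtain ⟨z, hz, ez⟩ := exists_index hmemB
  have ky := index_of_key hy ey
  have kz := index_of_key hz ez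
  have hval := val_true
  simp only [valCheck, List.all_eq_true, Bool.or_eq_true] at hval
  rcases hval q hq t ht with h | h | h
  · rw [← key_evW _ (hlt _ hu)] at h; exact absurd hmemA (not_mem_of_notIn h)
  · rw [← key_evW _ (hlt _ hv)] at h; exact absurd hmemB (not_mem_of_notIn h)
  rw [← key_evW _ (hlt _ hu), ← key_evW _ (hlt _ hv), ky, kz, beq_iff_eq] at h
  obtain ⟨A, hA, -, A1, A2⟩ := exists_lift_elt y hy
  obtain ⟨B, hB, -, B1, B2⟩ := exists_lift_elt z hz
  obtain ⟨P, hP, P1⟩ := mem_U.1 hp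
  have eA : A.1 = ρ (evW X (conjWord q t idxU)) := code_injective (A1.trans ey.symm)
  have eB : B.1 = ρ (evW X (conjWord q t idxV)) := code_injective (B1.trans ez.symm)
  have hab : (a : mclGroup) * b = b * a := by
    have e := eq_of_eqB huv
    rw [evW_cons, evW_cons, evW_nil, mul_one, evW_cons, evW_cons, evW_nil, mul_one] at e
    rw [ha, hb]
    calc g⁻¹ * X idxU * g * (g⁻¹ * X idxV * g) = g⁻¹ * (X idxU * X idxV) * g := by group
      _ = g⁻¹ * (X idxV * X idxU) * g := by rw [e]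
      _ = g⁻¹ * X idxV * g * (g⁻¹ * X idxU * g) := by group
  have hw : zeta ^ omega = inclZ (omega : ZMod 3) := by
    rw [inclZ, ZMod.val_natCast, ← pow_eq_pow_mod _ zeta_pow_three]
  have hcomm : A * B = B * A * zeta ^ omega := by
    refine pp_ext ?_ ?_
    · congr 1
      rw [Prod.fst_mul, Prod.fst_mul, Prod.fst_mul, zeta_pow_fst, mul_one, eA, eB, ← map_mul,
        ← map_mul, hW, hW, ← ha, ← hb]
      congr 1
      calc p * (a : mclGroup) * p⁻¹ * (p * b * p⁻¹) = p * ((a : mclGroup) * b) * p⁻¹ := by group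
        _ = p * ((b : mclGroup) * a) * p⁻¹ := by rw [hab]
        _ = p * b * p⁻¹ * (p * a * p⁻¹) := by group
    · rw [mul_assoc, Prod.snd_mul, Prod.snd_mul, Prod.snd_mul, codeS_mul, codeS_mul, codeS_mul,
        A2, B2, codeS_zeta_pow (show omega < 3 by decide), h]
  refine comm_value (Subtype.ext hab) (A := P⁻¹ * A * P) (B := P⁻¹ * B * P)
    (mul_mem (mul_mem (inv_mem hP) hA) hP) (mul_mem (mul_mem (inv_mem hP) hB) hP) ?_ ?_ ?_
  · rw [Prod.fst_mul, Prod.fst_mul, Prod.fst_inv, P1, eA, ← map_inv, ← map_mul, ← map_mul, hW, ← ha]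
    exact congrArg ρ (by group)
  · rw [Prod.fst_mul, Prod.fst_mul, Prod.fst_inv, P1, eB, ← map_inv, ← map_mul, ← map_mul, hW, ← hb]
    exact congrArg ρ (by group)
  · rw [← hw]
    calc P⁻¹ * A * P * (P⁻¹ * B * P) = P⁻¹ * (A * B) * P := by group
      _ = P⁻¹ * (B * A) * (zeta ^ omega * P) := by rw [hcomm]; group
      _ = P⁻¹ * B * P * (P⁻¹ * A * P) * zeta ^ omega := by rw [zeta_pow_comm hP]; group

theorem omega_ne_zero : (omega : ZMod 3) ≠ 0 := by decide

/-- A stem extension by a group of order 3. -/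
theorem exists_stem_three :
    ∃ (Γ : Type) (_ : Group Γ) (_ : Finite Γ) (σ : Γ →* mclGroup),
      Cfsg.IsStemExtension σ ∧ Nat.card σ.ker = 3 := by
  have : Finite mclGroup := Nat.finite_of_card_ne_zero (by rw [isMcL.2]; norm_num)
  have : Fact (Nat.Prime 3) := ⟨Nat.prime_three⟩
  obtain ⟨hu, hv, huv, hu3, hv3, -, -⟩ := pair_facts
  have e := eq_of_eqB huv
  have e1 := eq_of_eqB hu3
  have e2 := eq_of_eqB hv3
  simp only [evW_cons, evW_nil, mul_one] at e e1 e2
  exact SchurCor.exists_stem_of_cor U (by rw [index_U]; norm_num) cocycle (X idxU) (X idxV) e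
    (by rw [pow_succ', pow_two]; exact e1) (by rw [pow_succ', pow_two]; exact e2)
    (omega : ZMod 3) omega_ne_zero value_eq

end CfsgLib.SchurMcL
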