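import Cfsg.Agent.Lib.Schur.McL.LiftChecks
import Cfsg.Agent.Lib.Schur.Corestriction

/-!
A triple cover of a Sylow 3-subgroup of McL, as pairs of permutations, and its cocycle.
-/

set_option autoImplicit false

namespace CfsgLib.SchurMcL

open Cfsg CfsgLib.FusionCertN CfsgLib.FusionCertN.LeechRep CfsgLib.SchurTail Subgroup

/-- The code of a permutation of 27 points. -/
def codeS (σ : Equiv.Perm (Fin 27)) : ℕ :=
  enc (fun i => if h : i < 27 then (σ ⟨i, h⟩ : ℕ) else 0) 27

theorem codeS_entry (σ : Equiv.Perm (Fin 27)) (i : ℕ) :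
    (if h : i < 27 then (σ ⟨i, h⟩ : ℕ) else 0) < 512 := by
  split
  · exact lt_of_lt_of_le (σ _).2 (by norm_num)
  · norm_num

theorem app_codeS (σ : Equiv.Perm (Fin 27)) (i : Fin 27) : app (codeS σ) i = σ i := by
  rw [codeS, app_enc _ (codeS_entry σ) i.2, dif_pos i.2]

theorem codeS_injective : Function.Injective codeS := fun σ τ h =>
  Equiv.ext fun i => Fin.ext (by rw [← app_codeS, h, app_codeS])

theorem codeS_mul (σ τ : Equiv.Perm (Fin 27)) : codeS (σ * τ) = mulS (codeS σ) (codeS τ) := by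
  refine enc_congr fun i hi => ?_
  rw [dif_pos hi, show app (codeS τ) i = (τ ⟨i, hi⟩ : ℕ) from app_codeS τ ⟨i, hi⟩, app_codeS]
  rfl

theorem codeS_one : codeS 1 = idS := enc_congr fun i hi => by rw [dif_pos hi]; rfl

theorem exists_perm {c d : ℕ} (h : permOk c d = true) :
    ∃ σ : Equiv.Perm (Fin 27), codeS σ = c := by
  simp only [permOk, Bool.and_eq_true, List.all_eq_true, List.mem_range, beq_iff_eq,
    Nat.blt_eq] at h
  obtain ⟨he, hall⟩ := h
  refine ⟨⟨fun i => ⟨app c i, (hall i i.2).1⟩, fun i => ⟨app d i, (hall i i.2).2.1⟩,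
    fun i => Fin.ext (Nat.eq_of_beq_eq_true (hall i i.2).2.2.1),
    fun i => Fin.ext (Nat.eq_of_beq_eq_true (hall i i.2).2.2.2)⟩, ?_⟩
  conv_rhs => rw [← he]
  refine enc_congr fun i hi => ?_
  rw [dif_pos hi]
  rfl

theorem normal_true :
    ((List.range 729).all fun y => mulS (liftTwo.get y) idS == liftTwo.get y) = true := by
  decide +kernel

attribute [local irreducible] code codeS mulC mulS

theorem mulS_zS_zero {y : ℕ} (hy : y < 729) : mulS (liftTwo.get y) (zS 0) = liftTwo.get y := by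
  have h := List.all_eq_true.1 normal_true y (List.mem_range.2 hy)
  rw [show zS 0 = idS from rfl]
  exact eq_of_beq h

/-- Pairs of permutations. -/
abbrev PP : Type := Equiv.Perm (Fin 275) × Equiv.Perm (Fin 27)

theorem pp_ext {x y : PP} (h1 : code x.1 = code y.1) (h2 : codeS x.2 = codeS y.2) : x = y :=
  Prod.ext (code_injective h1) (codeS_injective h2)

theorem gens_facts : permOk zetaTwo zetaInv = true ∧ (∀ a, a < 3 → (gen a).1 < numEls ∧
    permOk (gen a).2.1 (gen a).2.2 = true ∧ mulS zetaTwo (gen a).2.1 = mulS (gen a).2.1 zetaTwo) ∧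
    mulS zetaTwo (mulS zetaTwo zetaTwo) = idS ∧ zetaTwo ≠ idS ∧
    liftOne.get 0 = idC ∧ liftTwo.get 0 = idS := by
  have h := gens_true
  simp only [gensCheck, Bool.and_eq_true, List.all_eq_true, List.mem_range, beq_iff_eq, Nat.blt_eq,
    bne_iff_ne, ne_eq] at h
  exact h

/-- The central element. -/
noncomputable def zeta : PP := (1, (exists_perm gens_facts.1).choose)

theorem codeS_zeta : codeS zeta.2 = zetaTwo := (exists_perm gens_facts.1).choose_spec

theorem zeta_fst : zeta.1 = 1 := rfl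

/-- The lifted generators. -/
noncomputable def G (a : ℕ) : PP :=
  (ρ (X (gen a).1), if h : a < 3 then (exists_perm (gens_facts.2.1 a h).2.1).choose else 1)

theorem G_fst (a : ℕ) : (G a).1 = ρ (X (gen a).1) := rfl

theorem codeS_G {a : ℕ} (h : a < 3) : codeS (G a).2 = (gen a).2.1 := by
  have e : (G a).2 = (exists_perm (gens_facts.2.1 a h).2.1).choose := dif_pos h
  rw [e]
  exact (exists_perm (gens_facts.2.1 a h).2.1).choose_spec

theorem zeta_pow_three : zeta ^ 3 = 1 := by
  refine Prod.ext (by rw [Prod.pow_fst, zeta_fst, one_pow, Prod.fst_one]) (codeS_injective ?_)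
  rw [Prod.pow_snd, Prod.snd_one, codeS_one, ← gens_facts.2.2.1, pow_succ', pow_two, codeS_mul,
    codeS_mul, codeS_zeta]

theorem zeta_ne_one : zeta ≠ 1 := fun h => gens_facts.2.2.2.1 (by
  rw [← codeS_zeta, h, Prod.snd_one, codeS_one])

theorem codeS_zeta_pow {j : ℕ} (hj : j < 3) : codeS (zeta ^ j).2 = zS j := by
  rw [Prod.pow_snd]
  obtain rfl | rfl | rfl : j = 0 ∨ j = 1 ∨ j = 2 := by omega
  · rw [pow_zero, codeS_one]; rfl
  · rw [pow_one, codeS_zeta]; rfl
  · rw [pow_two, codeS_mul, codeS_zeta]; rfl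

theorem zeta_pow_fst (j : ℕ) : (zeta ^ j).1 = 1 := by rw [Prod.pow_fst, zeta_fst, one_pow]

theorem zeta_G {a : ℕ} (ha : a < 3) : zeta * G a = G a * zeta := by
  refine Prod.ext (by rw [Prod.fst_mul, Prod.fst_mul, zeta_fst, one_mul, mul_one])
    (codeS_injective ?_)
  rw [Prod.snd_mul, Prod.snd_mul, codeS_mul, codeS_mul, codeS_zeta, codeS_G ha]
  exact (gens_facts.2.1 a ha).2.2

/-- The generating set. -/
def gensSet : Set PP := {x | ∃ a, a < 3 ∧ x = G a} ∪ {zeta}

/-- The triple cover. -/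
noncomputable def hat : Subgroup PP := closure gensSet

theorem G_mem {a : ℕ} (ha : a < 3) : G a ∈ hat := subset_closure (Or.inl ⟨a, ha, rfl⟩)

theorem zeta_mem : zeta ∈ hat := subset_closure (Or.inr rfl)

theorem zeta_comm {x : PP} (hx : x ∈ hat) : zeta * x = x * zeta := by
  induction hx using Subgroup.closure_induction with
  | mem y hy =>
    rcases hy with ⟨a, ha, rfl⟩ | hy
    · exact zeta_G ha
    · rw [Set.mem_singleton_iff.1 hy]
  | one => rw [mul_one, one_mul]
  | mul y z _ _ hy hz => rw [← mul_assoc, hy, mul_assoc, hz, mul_assoc]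
  | inv y _ hy => exact (Commute.inv_right (show Commute zeta y from hy)).eq

theorem zeta_pow_comm {x : PP} (hx : x ∈ hat) (j : ℕ) : zeta ^ j * x = x * zeta ^ j :=
  ((show Commute zeta x from zeta_comm hx).pow_left j).eq

theorem step_facts {x a : ℕ} (hx : x < 729) (ha : a < 3) :
    ((stepOf.get x).getD a (0, 0)).1 < 729 ∧ ((stepOf.get x).getD a (0, 0)).2 < 3 ∧
    mulC (liftOne.get x) (el (gen a).1) = liftOne.get ((stepOf.get x).getD a (0, 0)).1 ∧
    mulS (liftTwo.get x) (gen a).2.1 =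
      mulS (liftTwo.get ((stepOf.get x).getD a (0, 0)).1) (zS ((stepOf.get x).getD a (0, 0)).2) := by
  have h := step_true
  simp only [stepCheck, List.all_eq_true, List.mem_range] at h
  have h' := h x hx a ha
  simp only [Bool.and_eq_true, Nat.blt_eq, beq_iff_eq] at h'
  exact h'

theorem tree_facts {y : ℕ} (hy : y < 729) : (y = 0 ∨ (parentOf.get y).1 < y ∧
      (parentOf.get y).2 < 3 ∧
      (stepOf.get (parentOf.get y).1).getD (parentOf.get y).2 (0, 0) = (y, 0)) ∧
    findLift.get (keyList [liftOne.get y]) = y ∧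
    app (liftOne.get y) i0 = i0 ∧ app (liftOne.get y) j0 = j0 := by
  have h := tree_true
  simp only [treeCheck, List.all_eq_true, List.mem_range] at h
  have h' := h y hy
  simp only [Bool.and_eq_true, Bool.or_eq_true, Nat.blt_eq, beq_iff_eq] at h'
  obtain ⟨h1, h2, h3, h4⟩ := h'
  refine ⟨?_, Nat.eq_of_beq_eq_true h2, Nat.eq_of_beq_eq_true h3, Nat.eq_of_beq_eq_true h4⟩
  rcases h1 with h1 | h1
  · exact Or.inl (Nat.eq_of_beq_eq_true h1)
  · exact Or.inr h1

theorem exists_lift_elt : ∀ y, y < 729 → ∃ x : PP, x ∈ hat ∧ (∃ g : mclGroup, x.1 = ρ g) ∧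
    code x.1 = liftOne.get y ∧ codeS x.2 = liftTwo.get y := by
  intro y
  induction y using Nat.strong_induction_on with
  | _ y ih =>
    intro hy
    rcases (tree_facts hy).1 with rfl | ⟨hp, ha, he⟩
    · exact ⟨1, one_mem _, ⟨1, by rw [map_one, Prod.fst_one]⟩,
        by rw [Prod.fst_one, code_one, gens_facts.2.2.2.2.1],
        by rw [Prod.snd_one, codeS_one, gens_facts.2.2.2.2.2]⟩
    · obtain ⟨x, hx, ⟨g, hg⟩, h1, h2⟩ := ih _ hp (hp.trans hy)
      obtain ⟨-, -, e1, e2⟩ := step_facts (hp.trans hy) ha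
      rw [he] at e1 e2
      refine ⟨x * G (parentOf.get y).2, mul_mem hx (G_mem ha),
        ⟨g * X (gen (parentOf.get y).2).1, by rw [Prod.fst_mul, G_fst, hg, map_mul]⟩, ?_, ?_⟩
      · rw [Prod.fst_mul, G_fst, code_mul, h1, code_X (gens_facts.2.1 _ ha).1, e1]
      · rw [Prod.snd_mul, codeS_mul, h2, codeS_G ha, e2]
        exact mulS_zS_zero hy

theorem lift_mem_hat {x : PP} (hx : x ∈ hat) :
    ∃ y, y < 729 ∧ ∃ j, j < 3 ∧ ∃ e : PP, e ∈ hat ∧ code e.1 = liftOne.get y ∧
      codeS e.2 = liftTwo.get y ∧ x = e * zeta ^ j := by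
  have hm : x ∈ Submonoid.closure gensSet := by
    rw [← Subgroup.closure_toSubmonoid_of_finite]; exact hx
  induction hm using Submonoid.closure_induction_right with
  | one =>
    exact ⟨0, by norm_num, 0, by norm_num, 1, one_mem _,
      by rw [Prod.fst_one, code_one, gens_facts.2.2.2.2.1],
      by rw [Prod.snd_one, codeS_one, gens_facts.2.2.2.2.2], by rw [pow_zero, one_mul]⟩
  | mul_right w hw s hs ih =>
    have hwm : w ∈ hat := by
      have := (Subgroup.closure_toSubmonoid_of_finite (s := gensSet)).ge hw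
      exact this
    obtain ⟨y, hy, j, hj, e, he, e1, e2, rfl⟩ := ih hwm
    rcases hs with ⟨a, ha, rfl⟩ | hs
    · obtain ⟨hy', hi, s1, s2⟩ := step_facts hy ha
      obtain ⟨f, hf, -, f1, f2⟩ := exists_lift_elt _ hy'
      refine ⟨_, hy', (((stepOf.get y).getD a (0, 0)).2 + j) % 3, Nat.mod_lt _ (by norm_num), f, hf,
        f1, f2, ?_⟩
      have hea : e * G a = f * zeta ^ ((stepOf.get y).getD a (0, 0)).2 := by
        refine pp_ext ?_ ?_
        · rw [Prod.fst_mul, G_fst, code_mul, e1, code_X (gens_facts.2.1 a ha).1, s1, Prod.fst_mul,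
            zeta_pow_fst, mul_one, f1]
        · rw [Prod.snd_mul, codeS_mul, e2, codeS_G ha, s2, Prod.snd_mul, codeS_mul, f2,
            codeS_zeta_pow hi]
      rw [mul_assoc, zeta_pow_comm (G_mem ha), ← mul_assoc, hea, mul_assoc, ← pow_add,
        ← pow_eq_pow_mod _ zeta_pow_three]
    · rw [Set.mem_singleton_iff.1 hs]
      exact ⟨y, hy, (j + 1) % 3, Nat.mod_lt _ (by norm_num), e, he, e1, e2, by
        rw [mul_assoc, ← pow_succ, ← pow_eq_pow_mod _ zeta_pow_three]⟩

end CfsgLib.SchurMcL
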