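import Cfsg.Agent.Lib.Schur.McL.Coded
import Cfsg.Agent.Lib.Schur.McL.LiftData

/-!
Checks for the triple cover of a Sylow 3-subgroup of McL and for its commutator values at the
cosets fixed by a four-element generating configuration.
-/

set_option autoImplicit false

namespace CfsgLib.SchurMcL

open CfsgLib.FusionCertN CfsgLib.SchurTail CfsgLib.FusionCertN.LeechRep CfsgLib.Leech.Stab

/-- The code of a composite of permutations of 27 points. -/
def mulS (a b : ℕ) : ℕ := enc (fun i => app a (app b i)) 27

/-- The identity of 27 points. -/
def idS : ℕ := enc (fun i => i) 27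

/-- Two codes of mutually inverse permutations of 27 points. -/
def permOk (c d : ℕ) : Bool :=
  (enc (app c) 27 == c) && (List.range 27).all fun i => Nat.blt (app c i) 27 &&
    (Nat.blt (app d i) 27 && (Nat.beq (app d (app c i)) i && Nat.beq (app c (app d i)) i))

/-- The powers of the central element. -/
def zS (j : ℕ) : ℕ := [idS, zetaTwo, mulS zetaTwo zetaTwo].getD j 0

/-- A generator of the lifted subgroup. -/
def gen (a : ℕ) : ℕ × ℕ × ℕ := liftGens.getD a (0, 0, 0)

/-- The first base point. -/
def i0 : ℕ := 75

/-- The second base point. -/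
def j0 : ℕ := 137

def gensCheck : Bool :=
  permOk zetaTwo zetaInv && ((List.range 3).all (fun a => Nat.blt (gen a).1 numEls &&
    (permOk (gen a).2.1 (gen a).2.2 &&
      (mulS zetaTwo (gen a).2.1 == mulS (gen a).2.1 zetaTwo))) &&
  ((mulS zetaTwo (mulS zetaTwo zetaTwo) == idS) && ((zetaTwo != idS) &&
  ((liftOne.get 0 == idC) && (liftTwo.get 0 == idS)))))

def stepCheck : Bool :=
  (List.range 729).all fun x => (List.range 3).all fun a =>
    Nat.blt ((stepOf.get x).getD a (0, 0)).1 729 && (Nat.blt ((stepOf.get x).getD a (0, 0)).2 3 &&
    ((mulC (liftOne.get x) (el (gen a).1) == liftOne.get ((stepOf.get x).getD a (0, 0)).1) &&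
    (mulS (liftTwo.get x) (gen a).2.1 ==
      mulS (liftTwo.get ((stepOf.get x).getD a (0, 0)).1) (zS ((stepOf.get x).getD a (0, 0)).2))))

def treeCheck : Bool :=
  (List.range 729).all fun y => (Nat.beq y 0 || (Nat.blt (parentOf.get y).1 y &&
      (Nat.blt (parentOf.get y).2 3 &&
        ((stepOf.get (parentOf.get y).1).getD (parentOf.get y).2 (0, 0) == (y, 0))))) &&
    (Nat.beq (findLift.get (keyList [liftOne.get y])) y &&
      (Nat.beq (app (liftOne.get y) i0) i0 && Nat.beq (app (liftOne.get y) j0) j0))

def fixUV (i : ℕ) : Bool := Nat.beq (app (el idxU) i) i && Nat.beq (app (el idxV) i) i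

/-- The scalar product of two points. -/
def dotC (i j : ℕ) : ℤ :=
  dotZ (dig 24 (nth i)) (dig 24 (nth j))

def pairCheck : Bool :=
  Nat.blt idxU numEls && (Nat.blt idxV numEls &&
  (eqB [idxU, idxV] [idxV, idxU] && (eqB [idxU, idxU, idxU] [] && (eqB [idxV, idxV, idxV] [] &&
  ((dotC i0 j0 == 8) &&
  (List.range 275).all fun i => !fixUV i || (List.range 275).all fun j =>
    !fixUV j || (!(dotC i j == 8) || pairReps.any fun q =>
      Nat.beq (app (el q.1) i0) i && Nat.beq (app (el q.1) j0) j))))))

def invCheck : Bool :=
  (pairReps.all fun q => eqB [q.2, q.1] []) &&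
  (transversal.all fun t => eqB [t.2, t.1] [] &&
    (Nat.beq (app (el t.1) i0) i0 && Nat.beq (app (el t.1) j0) j0))

/-- A key does not belong to the subgroup. -/
def notIn (k : ℕ) : Bool :=
  !Nat.beq (keyList [liftOne.get (findLift.get k)]) k

def sepTrans : Bool :=
  Nat.beq transversal.length 40 && (List.range 40).all fun k => (List.range 40).all fun m =>
    Nat.beq k m || notIn (keyList [el (transversal.getD k (0, 0)).2, el (transversal.getD m (0, 0)).1])

/-- The conjugate of an element by a representative. -/
def conjWord (q t : ℕ × ℕ) (a : ℕ) : List ℕ := [t.2, q.2, a, q.1, t.1]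

def valCheck : Bool :=
  pairReps.all fun q => transversal.all fun t =>
    notIn (keyList ((conjWord q t idxU).map el)) || (notIn (keyList ((conjWord q t idxV).map el)) ||
    (mulS (liftTwo.get (findLift.get (keyList ((conjWord q t idxU).map el))))
        (liftTwo.get (findLift.get (keyList ((conjWord q t idxV).map el)))) ==
      mulS (liftTwo.get (findLift.get (keyList ((conjWord q t idxV).map el))))
        (mulS (liftTwo.get (findLift.get (keyList ((conjWord q t idxU).map el)))) (zS omega))))

theorem gens_true : gensCheck = true := by decide +kernel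

theorem step_true : stepCheck = true := by decide +kernel

theorem tree_true : treeCheck = true := by decide +kernel

theorem pair_true : pairCheck = true := by decide +kernel

theorem inv_true : invCheck = true := by decide +kernel

theorem sep_true : sepTrans = true := by decide +kernel

theorem val_true : valCheck = true := by decide +kernel

end CfsgLib.SchurMcL
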