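import Cfsg.Agent.Lib.Schur.TailPacked

/-! Certificate data for the multiplier of McL (generated). -/

set_option autoImplicit false
set_option maxRecDepth 100000
set_option maxHeartbeats 4000000

namespace CfsgLib.SchurMcL

open CfsgLib.SchurTail

def threeForms_0 : Table (List ℕ) := (.node 45 (.node 22 (.node 11 (.node 5 (.node 2 (.node 1 (.leaf []) (.leaf [0])) (.node 3 (.leaf [1]) (.node 4 (.leaf [2]) (.leaf [0, 2])))) (.node 8 (.node 6 (.leaf [1, 2]) (.node 7 (.leaf [3]) (.leaf [0, 3]))) (.node 9 (.leaf [1, 3]) (.node 10 (.leaf [4]) (.leaf [0, 4]))))) (.node 16 (.node 13 (.node 12 (.leaf [1, 4]) (.leaf [2, 4])) (.node 14 (.leaf [0, 2, 4]) (.node 15 (.leaf [1, 2, 4]) (.leaf [3, 4])))) (.node 19 (.node 17 (.leaf [0, 3, 4]) (.node 18 (.leaf [1, 3, 4]) (.leaf [5]))) (.node 20 (.leaf [0, 5]) (.node 21 (.leaf [1, 5]) (.leaf [2, 5])))))) (.node 33 (.node 27 (.node 24 (.node 23 (.leaf [0, 2, 5]) (.leaf [1, 2, 5])) (.node 25 (.leaf [3, 5]) (.node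 26 (.leaf [0, 3, 5]) (.leaf [1, 3, 5])))) (.node 30 (.node 28 (.leaf [6]) (.node 29 (.leaf [0, 6]) (.leaf [1, 6]))) (.node 31 (.leaf [2, 6]) (.node 32 (.leaf [0, 2, 6]) (.leaf [1, 2, 6]))))) (.node 39 (.node 36 (.node 34 (.leaf [3, 6]) (.node 35 (.leaf [0, 3, 6]) (.leaf [1, 3, 6]))) (.node 37 (.leaf [4, 6]) (.node 38 (.leaf [0, 4, 6]) (.leaf [1, 4, 6])))) (.node 42 (.node 40 (.leaf [2, 4, 6]) (.node 41 (.leaf [0, 2, 4, 6]) (.leaf [1, 2, 4, 6]))) (.node 43 (.leaf [3, 4, 6]) (.node 44 (.leaf [0, 3, 4, 6]) (.leaf [1, 3, 4, 6]))))))) (.node 68 (.node 56 (.node 50 (.node 47 (.node 46 (.leaf [5, 6]) (.leaf [0, 5, 6])) (.node 48 (.leaf [1, 5, 6]) (.node 49 (.leaf [2, 5, 6]) (.leaf [0, 2, 5, 6])))) (.node 53 (.node 51 (.leaf [1, 2, 5, 6]) (.node 52 (.leaf [3, 5, 6]) (.leaf [0, 3, 5, 6]))) (.node 54 (.leaf [1, 3, 5, 6]) (.node 55 (.leaf [7]) (.leaf [0, 7]))))) (.node 62 (.node 59 (.node 57 (.leaf [1, 7]) (.node 58 (.leaf [2, 7]) (.leaf [0, 2, 7])))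 (.node 60 (.leaf [1, 2, 7]) (.node 61 (.leaf [3, 7]) (.leaf [0, 3, 7])))) (.node 65 (.node 63 (.leaf [1, 3, 7]) (.node 64 (.leaf [4, 7]) (.leaf [0, 4, 7]))) (.node 66 (.leaf [1, 4, 7]) (.node 67 (.leaf [2, 4, 7]) (.leaf [0, 2, 4, 7])))))) (.node 79 (.node 73 (.node 70 (.node 69 (.leaf [1, 2, 4, 7]) (.leaf [3, 4, 7])) (.node 71 (.leaf [0, 3, 4, 7]) (.node 72 (.leaf [1, 3, 4, 7]) (.leaf [5, 7])))) (.node 76 (.node 74 (.leaf [0, 5, 7]) (.node 75 (.leaf [1, 5, 7]) (.leaf [2, 5, 7]))) (.node 77 (.leaf [0, 2, 5, 7]) (.node 78 (.leaf [1, 2, 5, 7]) (.leaf [3, 5, 7]))))) (.node 85 (.node 82 (.node 80 (.leaf [0, 3, 5, 7]) (.node 81 (.leaf [1, 3, 5, 7]) (.leaf [8]))) (.node 83 (.leaf [0, 8]) (.node 84 (.leaf [1, 8]) (.leaf [2, 8])))) (.node 88 (.node 86 (.leaf [0, 2, 8]) (.node 87 (.leaf [1, 2, 8]) (.leaf [3, 8]))) (.node 89 (.leaf [0, 3, 8]) (.node 90 (.leaf [1, 3, 8]) (.leaf [4, 8]))))))))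

def threeForms_91 : Table (List ℕ) := (.node 136 (.node 113 (.node 102 (.node 96 (.node 93 (.node 92 (.leaf [0, 4, 8]) (.leaf [1, 4, 8])) (.node 94 (.leaf [2, 4, 8]) (.node 95 (.leaf [0, 2, 4, 8]) (.leaf [1, 2, 4, 8])))) (.node 99 (.node 97 (.leaf [3, 4, 8]) (.node 98 (.leaf [0, 3, 4, 8]) (.leaf [1, 3, 4, 8]))) (.node 100 (.leaf [5, 8]) (.node 101 (.leaf [0, 5, 8]) (.leaf [1, 5, 8]))))) (.node 107 (.node 104 (.node 103 (.leaf [2, 5, 8]) (.leaf [0, 2, 5, 8])) (.node 105 (.leaf [1, 2, 5, 8]) (.node 106 (.leaf [3, 5, 8]) (.leaf [0, 3, 5, 8])))) (.node 110 (.node 108 (.leaf [1, 3, 5, 8]) (.node 109 (.leaf [6, 8]) (.leaf [0, 6, 8]))) (.node 111 (.leaf [1, 6, 8]) (.node 112 (.leaf [2, 6, 8]) (.leaf [0, 2, 6, 8])))))) (.node 124 (.node 118 (.node 115 (.node 114 (.leaf [1, 2, 6, 8]) (.leaf [3, 6, 8])) (.node 116 (.leaf [0, 3, 6, 8]) (.node 117 (.leaf [1, 3, 6, 8]) (.leaf [4, 6, 8])))) (.node 121 (.node 119 (.leaf [0, 4, 6, 8]) (.node 120 (.leaf [1,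 4, 6, 8]) (.leaf [2, 4, 6, 8]))) (.node 122 (.leaf [0, 2, 4, 6, 8]) (.node 123 (.leaf [1, 2, 4, 6, 8]) (.leaf [3, 4, 6, 8]))))) (.node 130 (.node 127 (.node 125 (.leaf [0, 3, 4, 6, 8]) (.node 126 (.leaf [1, 3, 4, 6, 8]) (.leaf [5, 6, 8]))) (.node 128 (.leaf [0, 5, 6, 8]) (.node 129 (.leaf [1, 5, 6, 8]) (.leaf [2, 5, 6, 8])))) (.node 133 (.node 131 (.leaf [0, 2, 5, 6, 8]) (.node 132 (.leaf [1, 2, 5, 6, 8]) (.leaf [3, 5, 6, 8]))) (.node 134 (.leaf [0, 3, 5, 6, 8]) (.node 135 (.leaf [1, 3, 5, 6, 8]) (.leaf [7, 8]))))))) (.node 159 (.node 147 (.node 141 (.node 138 (.node 137 (.leaf [0, 7, 8]) (.leaf [1, 7, 8])) (.node 139 (.leaf [2, 7, 8]) (.node 140 (.leaf [0, 2, 7, 8]) (.leaf [1, 2, 7, 8])))) (.node 144 (.node 142 (.leaf [3, 7, 8]) (.node 143 (.leaf [0, 3, 7, 8]) (.leaf [1, 3, 7, 8]))) (.node 145 (.leaf [4, 7, 8]) (.node 146 (.leaf [0, 4, 7, 8]) (.leaf [1, 4, 7, 8]))))) (.node 153 (.node 150 (.node 148 (.leaf [2, 4, 7, 8]) (.node 149 (.leaf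 [0, 2, 4, 7, 8]) (.leaf [1, 2, 4, 7, 8]))) (.node 151 (.leaf [3, 4, 7, 8]) (.node 152 (.leaf [0, 3, 4, 7, 8]) (.leaf [1, 3, 4, 7, 8])))) (.node 156 (.node 154 (.leaf [5, 7, 8]) (.node 155 (.leaf [0, 5, 7, 8]) (.leaf [1, 5, 7, 8]))) (.node 157 (.leaf [2, 5, 7, 8]) (.node 158 (.leaf [0, 2, 5, 7, 8]) (.leaf [1, 2, 5, 7, 8])))))) (.node 170 (.node 164 (.node 161 (.node 160 (.leaf [3, 5, 7, 8]) (.leaf [0, 3, 5, 7, 8])) (.node 162 (.leaf [1, 3, 5, 7, 8]) (.node 163 (.leaf [9]) (.leaf [0, 9])))) (.node 167 (.node 165 (.leaf [1, 9]) (.node 166 (.leaf [2, 9]) (.leaf [0, 2, 9]))) (.node 168 (.leaf [1, 2, 9]) (.node 169 (.leaf [3, 9]) (.leaf [0, 3, 9]))))) (.node 176 (.node 173 (.node 171 (.leaf [1, 3, 9]) (.node 172 (.leaf [4, 9]) (.leaf [0, 4, 9]))) (.node 174 (.leaf [1, 4, 9]) (.node 175 (.leaf [2, 4, 9]) (.leaf [0, 2, 4, 9])))) (.node 179 (.node 177 (.leaf [1, 2, 4, 9]) (.node 178 (.leaf [3, 4, 9]) (.leaf [0, 3, 4, 9]))) (.node 180 (.leaf [1, 3,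 4, 9]) (.node 181 (.leaf [5, 9]) (.leaf [0, 5, 9]))))))))

def threeForms_182 : Table (List ℕ) := (.node 227 (.node 204 (.node 193 (.node 187 (.node 184 (.node 183 (.leaf [1, 5, 9]) (.leaf [2, 5, 9])) (.node 185 (.leaf [0, 2, 5, 9]) (.node 186 (.leaf [1, 2, 5, 9]) (.leaf [3, 5, 9])))) (.node 190 (.node 188 (.leaf [0, 3, 5, 9]) (.node 189 (.leaf [1, 3, 5, 9]) (.leaf [6, 9]))) (.node 191 (.leaf [0, 6, 9]) (.node 192 (.leaf [1, 6, 9]) (.leaf [2, 6, 9]))))) (.node 198 (.node 195 (.node 194 (.leaf [0, 2, 6, 9]) (.leaf [1, 2, 6, 9])) (.node 196 (.leaf [3, 6, 9]) (.node 197 (.leaf [0, 3, 6, 9]) (.leaf [1, 3, 6, 9])))) (.node 201 (.node 199 (.leaf [4, 6, 9]) (.node 200 (.leaf [0, 4, 6, 9]) (.leaf [1, 4, 6, 9]))) (.node 202 (.leaf [2, 4, 6, 9]) (.node 203 (.leaf [0, 2, 4, 6, 9]) (.leaf [1, 2, 4, 6, 9])))))) (.node 215 (.node 209 (.node 206 (.node 205 (.leaf [3, 4, 6, 9]) (.leaf [0, 3, 4, 6, 9])) (.node 207 (.leaf [1, 3, 4, 6, 9]) (.node 208 (.leaf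 [5, 6, 9]) (.leaf [0, 5, 6, 9])))) (.node 212 (.node 210 (.leaf [1, 5, 6, 9]) (.node 211 (.leaf [2, 5, 6, 9]) (.leaf [0, 2, 5, 6, 9]))) (.node 213 (.leaf [1, 2, 5, 6, 9]) (.node 214 (.leaf [3, 5, 6, 9]) (.leaf [0, 3, 5, 6, 9]))))) (.node 221 (.node 218 (.node 216 (.leaf [1, 3, 5, 6, 9]) (.node 217 (.leaf [7, 9]) (.leaf [0, 7, 9]))) (.node 219 (.leaf [1, 7, 9]) (.node 220 (.leaf [2, 7, 9]) (.leaf [0, 2, 7, 9])))) (.node 224 (.node 222 (.leaf [1, 2, 7, 9]) (.node 223 (.leaf [3, 7, 9]) (.leaf [0, 3, 7, 9]))) (.node 225 (.leaf [1, 3, 7, 9]) (.node 226 (.leaf [4, 7, 9]) (.leaf [0, 4, 7, 9]))))))) (.node 250 (.node 238 (.node 232 (.node 229 (.node 228 (.leaf [1, 4, 7, 9]) (.leaf [2, 4, 7, 9])) (.node 230 (.leaf [0, 2, 4, 7, 9]) (.node 231 (.leaf [1, 2, 4, 7, 9]) (.leaf [3, 4, 7, 9])))) (.node 235 (.node 233 (.leaf [0, 3, 4, 7, 9]) (.node 234 (.leaf [1, 3, 4, 7, 9]) (.leaf [5, 7, 9]))) (.node 236 (.leaf [0, 5, 7, 9]) (.node 237 (.leaf [1, 5, 7, 9])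 (.leaf [2, 5, 7, 9]))))) (.node 244 (.node 241 (.node 239 (.leaf [0, 2, 5, 7, 9]) (.node 240 (.leaf [1, 2, 5, 7, 9]) (.leaf [3, 5, 7, 9]))) (.node 242 (.leaf [0, 3, 5, 7, 9]) (.node 243 (.leaf [1, 3, 5, 7, 9]) (.leaf [10])))) (.node 247 (.node 245 (.leaf [0, 10]) (.node 246 (.leaf [1, 10]) (.leaf [2, 10]))) (.node 248 (.leaf [0, 2, 10]) (.node 249 (.leaf [1, 2, 10]) (.leaf [3, 10])))))) (.node 261 (.node 255 (.node 252 (.node 251 (.leaf [0, 3, 10]) (.leaf [1, 3, 10])) (.node 253 (.leaf [4, 10]) (.node 254 (.leaf [0, 4, 10]) (.leaf [1, 4, 10])))) (.node 258 (.node 256 (.leaf [2, 4, 10]) (.node 257 (.leaf [0, 2, 4, 10]) (.leaf [1, 2, 4, 10]))) (.node 259 (.leaf [3, 4, 10]) (.node 260 (.leaf [0, 3, 4, 10]) (.leaf [1, 3, 4, 10]))))) (.node 267 (.node 264 (.node 262 (.leaf [5, 10]) (.node 263 (.leaf [0, 5, 10]) (.leaf [1, 5, 10]))) (.node 265 (.leaf [2, 5, 10]) (.node 266 (.leaf [0, 2, 5, 10]) (.leaf [1, 2, 5, 10])))) (.node 270 (.node 268 (.leaf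 [3, 5, 10]) (.node 269 (.leaf [0, 3, 5, 10]) (.leaf [1, 3, 5, 10]))) (.node 271 (.leaf [6, 10]) (.node 272 (.leaf [0, 6, 10]) (.leaf [1, 6, 10]))))))))

def threeForms_273 : Table (List ℕ) := (.node 318 (.node 295 (.node 284 (.node 278 (.node 275 (.node 274 (.leaf [2, 6, 10]) (.leaf [0, 2, 6, 10])) (.node 276 (.leaf [1, 2, 6, 10]) (.node 277 (.leaf [3, 6, 10]) (.leaf [0, 3, 6, 10])))) (.node 281 (.node 279 (.leaf [1, 3, 6, 10]) (.node 280 (.leaf [4, 6, 10]) (.leaf [0, 4, 6, 10]))) (.node 282 (.leaf [1, 4, 6, 10]) (.node 283 (.leaf [2, 4, 6, 10]) (.leaf [0, 2, 4, 6, 10]))))) (.node 289 (.node 286 (.node 285 (.leaf [1, 2, 4, 6, 10]) (.leaf [3, 4, 6, 10])) (.node 287 (.leaf [0, 3, 4, 6, 10]) (.node 288 (.leaf [1, 3, 4, 6, 10]) (.leaf [5, 6, 10])))) (.node 292 (.node 290 (.leaf [0, 5, 6, 10]) (.node 291 (.leaf [1, 5, 6, 10]) (.leaf [2, 5, 6, 10]))) (.node 293 (.leaf [0, 2, 5, 6, 10]) (.node 294 (.leaf [1, 2, 5, 6, 10]) (.leaf [3, 5, 6, 10]))))))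 (.node 306 (.node 300 (.node 297 (.node 296 (.leaf [0, 3, 5, 6, 10]) (.leaf [1, 3, 5, 6, 10])) (.node 298 (.leaf [7, 10]) (.node 299 (.leaf [0, 7, 10]) (.leaf [1, 7, 10])))) (.node 303 (.node 301 (.leaf [2, 7, 10]) (.node 302 (.leaf [0, 2, 7, 10]) (.leaf [1, 2, 7, 10]))) (.node 304 (.leaf [3, 7, 10]) (.node 305 (.leaf [0, 3, 7, 10]) (.leaf [1, 3, 7, 10]))))) (.node 312 (.node 309 (.node 307 (.leaf [4, 7, 10]) (.node 308 (.leaf [0, 4, 7, 10]) (.leaf [1, 4, 7, 10]))) (.node 310 (.leaf [2, 4, 7, 10]) (.node 311 (.leaf [0, 2, 4, 7, 10]) (.leaf [1, 2, 4, 7, 10])))) (.node 315 (.node 313 (.leaf [3, 4, 7, 10]) (.node 314 (.leaf [0, 3, 4, 7, 10]) (.leaf [1, 3, 4, 7, 10]))) (.node 316 (.leaf [5, 7, 10]) (.node 317 (.leaf [0, 5, 7, 10]) (.leaf [1, 5, 7, 10]))))))) (.node 341 (.node 329 (.node 323 (.node 320 (.node 319 (.leaf [2, 5, 7, 10]) (.leaf [0, 2, 5, 7, 10])) (.node 321 (.leaf [1, 2, 5, 7, 10]) (.node 322 (.leaf [3, 5, 7, 10]) (.leaf [0, 3, 5,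 7, 10])))) (.node 326 (.node 324 (.leaf [1, 3, 5, 7, 10]) (.node 325 (.leaf [8, 10]) (.leaf [0, 8, 10]))) (.node 327 (.leaf [1, 8, 10]) (.node 328 (.leaf [2, 8, 10]) (.leaf [0, 2, 8, 10]))))) (.node 335 (.node 332 (.node 330 (.leaf [1, 2, 8, 10]) (.node 331 (.leaf [3, 8, 10]) (.leaf [0, 3, 8, 10]))) (.node 333 (.leaf [1, 3, 8, 10]) (.node 334 (.leaf [4, 8, 10]) (.leaf [0, 4, 8, 10])))) (.node 338 (.node 336 (.leaf [1, 4, 8, 10]) (.node 337 (.leaf [2, 4, 8, 10]) (.leaf [0, 2, 4, 8, 10]))) (.node 339 (.leaf [1, 2, 4, 8, 10]) (.node 340 (.leaf [3, 4, 8, 10]) (.leaf [0, 3, 4, 8, 10])))))) (.node 352 (.node 346 (.node 343 (.node 342 (.leaf [1, 3, 4, 8, 10]) (.leaf [5, 8, 10])) (.node 344 (.leaf [0, 5, 8, 10]) (.node 345 (.leaf [1, 5, 8, 10]) (.leaf [2, 5, 8, 10])))) (.node 349 (.node 347 (.leaf [0, 2, 5, 8, 10]) (.node 348 (.leaf [1, 2, 5, 8, 10]) (.leaf [3, 5, 8, 10]))) (.node 350 (.leaf [0, 3, 5, 8, 10]) (.node 351 (.leaf [1, 3, 5, 8, 10]) (.leaf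 [6, 8, 10]))))) (.node 358 (.node 355 (.node 353 (.leaf [0, 6, 8, 10]) (.node 354 (.leaf [1, 6, 8, 10]) (.leaf [2, 6, 8, 10]))) (.node 356 (.leaf [0, 2, 6, 8, 10]) (.node 357 (.leaf [1, 2, 6, 8, 10]) (.leaf [3, 6, 8, 10])))) (.node 361 (.node 359 (.leaf [0, 3, 6, 8, 10]) (.node 360 (.leaf [1, 3, 6, 8, 10]) (.leaf [4, 6, 8, 10]))) (.node 362 (.leaf [0, 4, 6, 8, 10]) (.node 363 (.leaf [1, 4, 6, 8, 10]) (.leaf [2, 4, 6, 8, 10]))))))))

def threeForms_364 : Table (List ℕ) := (.node 409 (.node 386 (.node 375 (.node 369 (.node 366 (.node 365 (.leaf [0, 2, 4, 6, 8, 10]) (.leaf [1, 2, 4, 6, 8, 10])) (.node 367 (.leaf [3, 4, 6, 8, 10]) (.node 368 (.leaf [0, 3, 4, 6, 8, 10]) (.leaf [1, 3, 4, 6, 8, 10])))) (.node 372 (.node 370 (.leaf [5, 6, 8, 10]) (.node 371 (.leaf [0, 5, 6, 8, 10]) (.leaf [1, 5, 6, 8, 10]))) (.node 373 (.leaf [2, 5, 6, 8, 10]) (.node 374 (.leaf [0, 2, 5, 6, 8, 10]) (.leaf [1, 2, 5, 6, 8, 10]))))) (.node 380 (.node 377 (.node 376 (.leaf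 [3, 5, 6, 8, 10]) (.leaf [0, 3, 5, 6, 8, 10])) (.node 378 (.leaf [1, 3, 5, 6, 8, 10]) (.node 379 (.leaf [7, 8, 10]) (.leaf [0, 7, 8, 10])))) (.node 383 (.node 381 (.leaf [1, 7, 8, 10]) (.node 382 (.leaf [2, 7, 8, 10]) (.leaf [0, 2, 7, 8, 10]))) (.node 384 (.leaf [1, 2, 7, 8, 10]) (.node 385 (.leaf [3, 7, 8, 10]) (.leaf [0, 3, 7, 8, 10])))))) (.node 397 (.node 391 (.node 388 (.node 387 (.leaf [1, 3, 7, 8, 10]) (.leaf [4, 7, 8, 10])) (.node 389 (.leaf [0, 4, 7, 8, 10]) (.node 390 (.leaf [1, 4, 7, 8, 10]) (.leaf [2, 4, 7, 8, 10])))) (.node 394 (.node 392 (.leaf [0, 2, 4, 7, 8, 10]) (.node 393 (.leaf [1, 2, 4, 7, 8, 10]) (.leaf [3, 4, 7, 8, 10]))) (.node 395 (.leaf [0, 3, 4, 7, 8, 10]) (.node 396 (.leaf [1, 3, 4, 7, 8, 10]) (.leaf [5, 7, 8, 10]))))) (.node 403 (.node 400 (.node 398 (.leaf [0, 5, 7, 8, 10]) (.node 399 (.leaf [1, 5, 7, 8, 10]) (.leaf [2, 5, 7, 8, 10]))) (.node 401 (.leaf [0, 2, 5, 7, 8, 10]) (.node 402 (.leaf [1, 2, 5, 7, 8, 10])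 (.leaf [3, 5, 7, 8, 10])))) (.node 406 (.node 404 (.leaf [0, 3, 5, 7, 8, 10]) (.node 405 (.leaf [1, 3, 5, 7, 8, 10]) (.leaf [9, 10]))) (.node 407 (.leaf [0, 9, 10]) (.node 408 (.leaf [1, 9, 10]) (.leaf [2, 9, 10]))))))) (.node 432 (.node 420 (.node 414 (.node 411 (.node 410 (.leaf [0, 2, 9, 10]) (.leaf [1, 2, 9, 10])) (.node 412 (.leaf [3, 9, 10]) (.node 413 (.leaf [0, 3, 9, 10]) (.leaf [1, 3, 9, 10])))) (.node 417 (.node 415 (.leaf [4, 9, 10]) (.node 416 (.leaf [0, 4, 9, 10]) (.leaf [1, 4, 9, 10]))) (.node 418 (.leaf [2, 4, 9, 10]) (.node 419 (.leaf [0, 2, 4, 9, 10]) (.leaf [1, 2, 4, 9, 10]))))) (.node 426 (.node 423 (.node 421 (.leaf [3, 4, 9, 10]) (.node 422 (.leaf [0, 3, 4, 9, 10]) (.leaf [1, 3, 4, 9, 10]))) (.node 424 (.leaf [5, 9, 10]) (.node 425 (.leaf [0, 5, 9, 10]) (.leaf [1, 5, 9, 10])))) (.node 429 (.node 427 (.leaf [2, 5, 9, 10]) (.node 428 (.leaf [0, 2, 5, 9, 10]) (.leaf [1, 2, 5, 9, 10]))) (.node 430 (.leaf [3, 5, 9, 10]) (.node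 431 (.leaf [0, 3, 5, 9, 10]) (.leaf [1, 3, 5, 9, 10])))))) (.node 443 (.node 437 (.node 434 (.node 433 (.leaf [6, 9, 10]) (.leaf [0, 6, 9, 10])) (.node 435 (.leaf [1, 6, 9, 10]) (.node 436 (.leaf [2, 6, 9, 10]) (.leaf [0, 2, 6, 9, 10])))) (.node 440 (.node 438 (.leaf [1, 2, 6, 9, 10]) (.node 439 (.leaf [3, 6, 9, 10]) (.leaf [0, 3, 6, 9, 10]))) (.node 441 (.leaf [1, 3, 6, 9, 10]) (.node 442 (.leaf [4, 6, 9, 10]) (.leaf [0, 4, 6, 9, 10]))))) (.node 449 (.node 446 (.node 444 (.leaf [1, 4, 6, 9, 10]) (.node 445 (.leaf [2, 4, 6, 9, 10]) (.leaf [0, 2, 4, 6, 9, 10]))) (.node 447 (.leaf [1, 2, 4, 6, 9, 10]) (.node 448 (.leaf [3, 4, 6, 9, 10]) (.leaf [0, 3, 4, 6, 9, 10])))) (.node 452 (.node 450 (.leaf [1, 3, 4, 6, 9, 10]) (.node 451 (.leaf [5, 6, 9, 10]) (.leaf [0, 5, 6, 9, 10]))) (.node 453 (.leaf [1, 5, 6, 9, 10]) (.node 454 (.leaf [2, 5, 6, 9, 10]) (.leaf [0, 2, 5, 6, 9, 10]))))))))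

def threeForms_455 : Table (List ℕ) := (.node 500 (.node 477 (.node 466 (.node 460 (.node 457 (.node 456 (.leaf [1, 2, 5, 6, 9, 10]) (.leaf [3, 5, 6, 9, 10])) (.node 458 (.leaf [0, 3, 5, 6, 9, 10]) (.node 459 (.leaf [1, 3, 5, 6, 9, 10]) (.leaf [7, 9, 10])))) (.node 463 (.node 461 (.leaf [0, 7, 9, 10]) (.node 462 (.leaf [1, 7, 9, 10]) (.leaf [2, 7, 9, 10]))) (.node 464 (.leaf [0, 2, 7, 9, 10]) (.node 465 (.leaf [1, 2, 7, 9, 10]) (.leaf [3, 7, 9, 10]))))) (.node 471 (.node 468 (.node 467 (.leaf [0, 3, 7, 9, 10]) (.leaf [1, 3, 7, 9, 10])) (.node 469 (.leaf [4, 7, 9, 10]) (.node 470 (.leaf [0, 4, 7, 9, 10]) (.leaf [1, 4, 7, 9, 10])))) (.node 474 (.node 472 (.leaf [2, 4, 7, 9, 10]) (.node 473 (.leaf [0, 2, 4, 7, 9, 10]) (.leaf [1, 2, 4, 7, 9, 10]))) (.node 475 (.leaf [3, 4, 7, 9, 10]) (.node 476 (.leaf [0, 3, 4, 7, 9, 10]) (.leaf [1, 3, 4, 7, 9, 10])))))) (.node 488 (.node 482 (.node 479 (.node 478 (.leaf [5, 7, 9, 10]) (.leaf [0, 5, 7, 9, 10]))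 (.node 480 (.leaf [1, 5, 7, 9, 10]) (.node 481 (.leaf [2, 5, 7, 9, 10]) (.leaf [0, 2, 5, 7, 9, 10])))) (.node 485 (.node 483 (.leaf [1, 2, 5, 7, 9, 10]) (.node 484 (.leaf [3, 5, 7, 9, 10]) (.leaf [0, 3, 5, 7, 9, 10]))) (.node 486 (.leaf [1, 3, 5, 7, 9, 10]) (.node 487 (.leaf [11]) (.leaf [0, 11]))))) (.node 494 (.node 491 (.node 489 (.leaf [1, 11]) (.node 490 (.leaf [2, 11]) (.leaf [0, 2, 11]))) (.node 492 (.leaf [1, 2, 11]) (.node 493 (.leaf [3, 11]) (.leaf [0, 3, 11])))) (.node 497 (.node 495 (.leaf [1, 3, 11]) (.node 496 (.leaf [4, 11]) (.leaf [0, 4, 11]))) (.node 498 (.leaf [1, 4, 11]) (.node 499 (.leaf [2, 4, 11]) (.leaf [0, 2, 4, 11]))))))) (.node 523 (.node 511 (.node 505 (.node 502 (.node 501 (.leaf [1, 2, 4, 11]) (.leaf [3, 4, 11])) (.node 503 (.leaf [0, 3, 4, 11]) (.node 504 (.leaf [1, 3, 4, 11]) (.leaf [5, 11])))) (.node 508 (.node 506 (.leaf [0, 5, 11]) (.node 507 (.leaf [1, 5, 11]) (.leaf [2, 5, 11]))) (.node 509 (.leaf [0, 2,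 5, 11]) (.node 510 (.leaf [1, 2, 5, 11]) (.leaf [3, 5, 11]))))) (.node 517 (.node 514 (.node 512 (.leaf [0, 3, 5, 11]) (.node 513 (.leaf [1, 3, 5, 11]) (.leaf [6, 11]))) (.node 515 (.leaf [0, 6, 11]) (.node 516 (.leaf [1, 6, 11]) (.leaf [2, 6, 11])))) (.node 520 (.node 518 (.leaf [0, 2, 6, 11]) (.node 519 (.leaf [1, 2, 6, 11]) (.leaf [3, 6, 11]))) (.node 521 (.leaf [0, 3, 6, 11]) (.node 522 (.leaf [1, 3, 6, 11]) (.leaf [4, 6, 11])))))) (.node 534 (.node 528 (.node 525 (.node 524 (.leaf [0, 4, 6, 11]) (.leaf [1, 4, 6, 11])) (.node 526 (.leaf [2, 4, 6, 11]) (.node 527 (.leaf [0, 2, 4, 6, 11]) (.leaf [1, 2, 4, 6, 11])))) (.node 531 (.node 529 (.leaf [3, 4, 6, 11]) (.node 530 (.leaf [0, 3, 4, 6, 11]) (.leaf [1, 3, 4, 6, 11]))) (.node 532 (.leaf [5, 6, 11]) (.node 533 (.leaf [0, 5, 6, 11]) (.leaf [1, 5, 6, 11]))))) (.node 540 (.node 537 (.node 535 (.leaf [2, 5, 6, 11]) (.node 536 (.leaf [0, 2, 5, 6, 11]) (.leaf [1, 2, 5, 6, 11]))) (.node 538 (.leaf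 [3, 5, 6, 11]) (.node 539 (.leaf [0, 3, 5, 6, 11]) (.leaf [1, 3, 5, 6, 11])))) (.node 543 (.node 541 (.leaf [7, 11]) (.node 542 (.leaf [0, 7, 11]) (.leaf [1, 7, 11]))) (.node 544 (.leaf [2, 7, 11]) (.node 545 (.leaf [0, 2, 7, 11]) (.leaf [1, 2, 7, 11]))))))))

def threeForms_546 : Table (List ℕ) := (.node 591 (.node 568 (.node 557 (.node 551 (.node 548 (.node 547 (.leaf [3, 7, 11]) (.leaf [0, 3, 7, 11])) (.node 549 (.leaf [1, 3, 7, 11]) (.node 550 (.leaf [4, 7, 11]) (.leaf [0, 4, 7, 11])))) (.node 554 (.node 552 (.leaf [1, 4, 7, 11]) (.node 553 (.leaf [2, 4, 7, 11]) (.leaf [0, 2, 4, 7, 11]))) (.node 555 (.leaf [1, 2, 4, 7, 11]) (.node 556 (.leaf [3, 4, 7, 11]) (.leaf [0, 3, 4, 7, 11]))))) (.node 562 (.node 559 (.node 558 (.leaf [1, 3, 4, 7, 11]) (.leaf [5, 7, 11])) (.node 560 (.leaf [0, 5, 7, 11]) (.node 561 (.leaf [1, 5, 7, 11]) (.leaf [2, 5, 7, 11])))) (.node 565 (.node 563 (.leaf [0, 2, 5, 7, 11]) (.node 564 (.leaf [1, 2, 5, 7, 11]) (.leaf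 [3, 5, 7, 11]))) (.node 566 (.leaf [0, 3, 5, 7, 11]) (.node 567 (.leaf [1, 3, 5, 7, 11]) (.leaf [8, 11])))))) (.node 579 (.node 573 (.node 570 (.node 569 (.leaf [0, 8, 11]) (.leaf [1, 8, 11])) (.node 571 (.leaf [2, 8, 11]) (.node 572 (.leaf [0, 2, 8, 11]) (.leaf [1, 2, 8, 11])))) (.node 576 (.node 574 (.leaf [3, 8, 11]) (.node 575 (.leaf [0, 3, 8, 11]) (.leaf [1, 3, 8, 11]))) (.node 577 (.leaf [4, 8, 11]) (.node 578 (.leaf [0, 4, 8, 11]) (.leaf [1, 4, 8, 11]))))) (.node 585 (.node 582 (.node 580 (.leaf [2, 4, 8, 11]) (.node 581 (.leaf [0, 2, 4, 8, 11]) (.leaf [1, 2, 4, 8, 11]))) (.node 583 (.leaf [3, 4, 8, 11]) (.node 584 (.leaf [0, 3, 4, 8, 11]) (.leaf [1, 3, 4, 8, 11])))) (.node 588 (.node 586 (.leaf [5, 8, 11]) (.node 587 (.leaf [0, 5, 8, 11]) (.leaf [1, 5, 8, 11]))) (.node 589 (.leaf [2, 5, 8, 11]) (.node 590 (.leaf [0, 2, 5, 8, 11]) (.leaf [1, 2, 5, 8, 11]))))))) (.node 614 (.node 602 (.node 596 (.node 593 (.node 592 (.leaf [3, 5, 8,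 11]) (.leaf [0, 3, 5, 8, 11])) (.node 594 (.leaf [1, 3, 5, 8, 11]) (.node 595 (.leaf [6, 8, 11]) (.leaf [0, 6, 8, 11])))) (.node 599 (.node 597 (.leaf [1, 6, 8, 11]) (.node 598 (.leaf [2, 6, 8, 11]) (.leaf [0, 2, 6, 8, 11]))) (.node 600 (.leaf [1, 2, 6, 8, 11]) (.node 601 (.leaf [3, 6, 8, 11]) (.leaf [0, 3, 6, 8, 11]))))) (.node 608 (.node 605 (.node 603 (.leaf [1, 3, 6, 8, 11]) (.node 604 (.leaf [4, 6, 8, 11]) (.leaf [0, 4, 6, 8, 11]))) (.node 606 (.leaf [1, 4, 6, 8, 11]) (.node 607 (.leaf [2, 4, 6, 8, 11]) (.leaf [0, 2, 4, 6, 8, 11])))) (.node 611 (.node 609 (.leaf [1, 2, 4, 6, 8, 11]) (.node 610 (.leaf [3, 4, 6, 8, 11]) (.leaf [0, 3, 4, 6, 8, 11]))) (.node 612 (.leaf [1, 3, 4, 6, 8, 11]) (.node 613 (.leaf [5, 6, 8, 11]) (.leaf [0, 5, 6, 8, 11])))))) (.node 625 (.node 619 (.node 616 (.node 615 (.leaf [1, 5, 6, 8, 11]) (.leaf [2, 5, 6, 8, 11])) (.node 617 (.leaf [0, 2, 5, 6, 8, 11]) (.node 618 (.leaf [1, 2, 5, 6, 8, 11]) (.leaf [3, 5, 6,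 8, 11])))) (.node 622 (.node 620 (.leaf [0, 3, 5, 6, 8, 11]) (.node 621 (.leaf [1, 3, 5, 6, 8, 11]) (.leaf [7, 8, 11]))) (.node 623 (.leaf [0, 7, 8, 11]) (.node 624 (.leaf [1, 7, 8, 11]) (.leaf [2, 7, 8, 11]))))) (.node 631 (.node 628 (.node 626 (.leaf [0, 2, 7, 8, 11]) (.node 627 (.leaf [1, 2, 7, 8, 11]) (.leaf [3, 7, 8, 11]))) (.node 629 (.leaf [0, 3, 7, 8, 11]) (.node 630 (.leaf [1, 3, 7, 8, 11]) (.leaf [4, 7, 8, 11])))) (.node 634 (.node 632 (.leaf [0, 4, 7, 8, 11]) (.node 633 (.leaf [1, 4, 7, 8, 11]) (.leaf [2, 4, 7, 8, 11]))) (.node 635 (.leaf [0, 2, 4, 7, 8, 11]) (.node 636 (.leaf [1, 2, 4, 7, 8, 11]) (.leaf [3, 4, 7, 8, 11]))))))))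

def threeForms_637 : Table (List ℕ) := (.node 683 (.node 660 (.node 648 (.node 642 (.node 639 (.node 638 (.leaf [0, 3, 4, 7, 8, 11]) (.leaf [1, 3, 4, 7, 8, 11])) (.node 640 (.leaf [5, 7, 8, 11]) (.node 641 (.leaf [0, 5, 7, 8, 11]) (.leaf [1, 5, 7, 8, 11])))) (.node 645 (.node 643 (.leaf [2, 5, 7, 8, 11]) (.node 644 (.leaf [0, 2, 5, 7, 8, 11]) (.leaf [1, 2, 5, 7, 8, 11]))) (.node 646 (.leaf [3, 5, 7, 8, 11]) (.node 647 (.leaf [0, 3, 5, 7, 8, 11]) (.leaf [1, 3, 5, 7, 8, 11]))))) (.node 654 (.node 651 (.node 649 (.leaf [9, 11]) (.node 650 (.leaf [0, 9, 11]) (.leaf [1, 9, 11]))) (.node 652 (.leaf [2, 9, 11]) (.node 653 (.leaf [0, 2, 9, 11]) (.leaf [1, 2, 9, 11])))) (.node 657 (.node 655 (.leaf [3, 9, 11]) (.node 656 (.leaf [0, 3, 9, 11]) (.leaf [1, 3, 9, 11]))) (.node 658 (.leaf [4, 9, 11]) (.node 659 (.leaf [0, 4, 9, 11]) (.leaf [1, 4, 9, 11])))))) (.node 671 (.node 665 (.node 662 (.node 661 (.leaf [2, 4, 9, 11]) (.leaf [0, 2, 4, 9, 11])) (.node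 663 (.leaf [1, 2, 4, 9, 11]) (.node 664 (.leaf [3, 4, 9, 11]) (.leaf [0, 3, 4, 9, 11])))) (.node 668 (.node 666 (.leaf [1, 3, 4, 9, 11]) (.node 667 (.leaf [5, 9, 11]) (.leaf [0, 5, 9, 11]))) (.node 669 (.leaf [1, 5, 9, 11]) (.node 670 (.leaf [2, 5, 9, 11]) (.leaf [0, 2, 5, 9, 11]))))) (.node 677 (.node 674 (.node 672 (.leaf [1, 2, 5, 9, 11]) (.node 673 (.leaf [3, 5, 9, 11]) (.leaf [0, 3, 5, 9, 11]))) (.node 675 (.leaf [1, 3, 5, 9, 11]) (.node 676 (.leaf [6, 9, 11]) (.leaf [0, 6, 9, 11])))) (.node 680 (.node 678 (.leaf [1, 6, 9, 11]) (.node 679 (.leaf [2, 6, 9, 11]) (.leaf [0, 2, 6, 9, 11]))) (.node 681 (.leaf [1, 2, 6, 9, 11]) (.node 682 (.leaf [3, 6, 9, 11]) (.leaf [0, 3, 6, 9, 11]))))))) (.node 706 (.node 694 (.node 688 (.node 685 (.node 684 (.leaf [1, 3, 6, 9, 11]) (.leaf [4, 6, 9, 11])) (.node 686 (.leaf [0, 4, 6, 9, 11]) (.node 687 (.leaf [1, 4, 6, 9, 11]) (.leaf [2, 4, 6, 9, 11])))) (.node 691 (.node 689 (.leaf [0, 2, 4, 6, 9, 11]) (.node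 690 (.leaf [1, 2, 4, 6, 9, 11]) (.leaf [3, 4, 6, 9, 11]))) (.node 692 (.leaf [0, 3, 4, 6, 9, 11]) (.node 693 (.leaf [1, 3, 4, 6, 9, 11]) (.leaf [5, 6, 9, 11]))))) (.node 700 (.node 697 (.node 695 (.leaf [0, 5, 6, 9, 11]) (.node 696 (.leaf [1, 5, 6, 9, 11]) (.leaf [2, 5, 6, 9, 11]))) (.node 698 (.leaf [0, 2, 5, 6, 9, 11]) (.node 699 (.leaf [1, 2, 5, 6, 9, 11]) (.leaf [3, 5, 6, 9, 11])))) (.node 703 (.node 701 (.leaf [0, 3, 5, 6, 9, 11]) (.node 702 (.leaf [1, 3, 5, 6, 9, 11]) (.leaf [7, 9, 11]))) (.node 704 (.leaf [0, 7, 9, 11]) (.node 705 (.leaf [1, 7, 9, 11]) (.leaf [2, 7, 9, 11])))))) (.node 717 (.node 711 (.node 708 (.node 707 (.leaf [0, 2, 7, 9, 11]) (.leaf [1, 2, 7, 9, 11])) (.node 709 (.leaf [3, 7, 9, 11]) (.node 710 (.leaf [0, 3, 7, 9, 11]) (.leaf [1, 3, 7, 9, 11])))) (.node 714 (.node 712 (.leaf [4, 7, 9, 11]) (.node 713 (.leaf [0, 4, 7, 9, 11]) (.leaf [1, 4, 7, 9, 11]))) (.node 715 (.leaf [2, 4, 7, 9, 11]) (.node 716 (.leaf [0, 2,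 4, 7, 9, 11]) (.leaf [1, 2, 4, 7, 9, 11]))))) (.node 723 (.node 720 (.node 718 (.leaf [3, 4, 7, 9, 11]) (.node 719 (.leaf [0, 3, 4, 7, 9, 11]) (.leaf [1, 3, 4, 7, 9, 11]))) (.node 721 (.leaf [5, 7, 9, 11]) (.node 722 (.leaf [0, 5, 7, 9, 11]) (.leaf [1, 5, 7, 9, 11])))) (.node 726 (.node 724 (.leaf [2, 5, 7, 9, 11]) (.node 725 (.leaf [0, 2, 5, 7, 9, 11]) (.leaf [1, 2, 5, 7, 9, 11]))) (.node 727 (.leaf [3, 5, 7, 9, 11]) (.node 728 (.leaf [0, 3, 5, 7, 9, 11]) (.leaf [1, 3, 5, 7, 9, 11]))))))))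

def threeForms : Table (List ℕ) := (.node 364 (.node 182 (.node 91 threeForms_0 threeForms_91) (.node 273 threeForms_182 threeForms_273)) (.node 546 (.node 455 threeForms_364 threeForms_455) (.node 637 threeForms_546 threeForms_637)))

def threePos_0 : Table (ℕ) := (.node 45 (.node 22 (.node 11 (.node 5 (.node 2 (.node 1 (.leaf 0) (.leaf 1)) (.node 3 (.leaf 2) (.node 4 (.leaf 3) (.leaf 4)))) (.node 8 (.node 6 (.leaf 5) (.node 7 (.leaf 6) (.leaf 7))) (.node 9 (.leaf 8) (.node 10 (.leaf 9) (.leaf 10))))) (.node 16 (.node 13 (.node 12 (.leaf 11) (.leaf 12)) (.node 14 (.leaf 13) (.node 15 (.leaf 14) (.leaf 15)))) (.node 19 (.node 17 (.leaf 16) (.node 18 (.leaf 17) (.leaf 18))) (.node 20 (.leaf 19) (.node 21 (.leaf 20) (.leaf 21)))))) (.node 33 (.node 27 (.node 24 (.node 23 (.leaf 22) (.leaf 23)) (.node 25 (.leaf 24) (.node 26 (.leaf 25) (.leaf 26)))) (.node 30 (.node 28 (.leaf 27) (.node 29 (.leaf 28) (.leaf 29))) (.node 31 (.leaf 30) (.node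 32 (.leaf 31) (.leaf 32))))) (.node 39 (.node 36 (.node 34 (.leaf 33) (.node 35 (.leaf 34) (.leaf 35))) (.node 37 (.leaf 36) (.node 38 (.leaf 37) (.leaf 38)))) (.node 42 (.node 40 (.leaf 39) (.node 41 (.leaf 40) (.leaf 41))) (.node 43 (.leaf 42) (.node 44 (.leaf 43) (.leaf 44))))))) (.node 68 (.node 56 (.node 50 (.node 47 (.node 46 (.leaf 45) (.leaf 46)) (.node 48 (.leaf 47) (.node 49 (.leaf 48) (.leaf 49)))) (.node 53 (.node 51 (.leaf 50) (.node 52 (.leaf 51) (.leaf 52))) (.node 54 (.leaf 53) (.node 55 (.leaf 54) (.leaf 55))))) (.node 62 (.node 59 (.node 57 (.leaf 56) (.node 58 (.leaf 57) (.leaf 58))) (.node 60 (.leaf 59) (.node 61 (.leaf 60) (.leaf 61)))) (.node 65 (.node 63 (.leaf 62) (.node 64 (.leaf 63) (.leaf 64))) (.node 66 (.leaf 65) (.node 67 (.leaf 66) (.leaf 67)))))) (.node 79 (.node 73 (.node 70 (.node 69 (.leaf 68) (.leaf 69)) (.node 71 (.leaf 70) (.node 72 (.leaf 71) (.leaf 72)))) (.node 76 (.node 74 (.leaf 73) (.node 75 (.leaf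 74) (.leaf 75))) (.node 77 (.leaf 76) (.node 78 (.leaf 77) (.leaf 78))))) (.node 85 (.node 82 (.node 80 (.leaf 79) (.node 81 (.leaf 80) (.leaf 81))) (.node 83 (.leaf 82) (.node 84 (.leaf 83) (.leaf 84)))) (.node 88 (.node 86 (.leaf 85) (.node 87 (.leaf 86) (.leaf 87))) (.node 89 (.leaf 88) (.node 90 (.leaf 89) (.leaf 90))))))))

def threePos_91 : Table (ℕ) := (.node 136 (.node 113 (.node 102 (.node 96 (.node 93 (.node 92 (.leaf 91) (.leaf 92)) (.node 94 (.leaf 93) (.node 95 (.leaf 94) (.leaf 95)))) (.node 99 (.node 97 (.leaf 96) (.node 98 (.leaf 97) (.leaf 98))) (.node 100 (.leaf 99) (.node 101 (.leaf 100) (.leaf 101))))) (.node 107 (.node 104 (.node 103 (.leaf 102) (.leaf 103)) (.node 105 (.leaf 104) (.node 106 (.leaf 105) (.leaf 106)))) (.node 110 (.node 108 (.leaf 107) (.node 109 (.leaf 108) (.leaf 109))) (.node 111 (.leaf 110) (.node 112 (.leaf 111) (.leaf 112)))))) (.node 124 (.node 118 (.node 115 (.node 114 (.leaf 113) (.leaf 114)) (.node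 116 (.leaf 115) (.node 117 (.leaf 116) (.leaf 117)))) (.node 121 (.node 119 (.leaf 118) (.node 120 (.leaf 119) (.leaf 120))) (.node 122 (.leaf 121) (.node 123 (.leaf 122) (.leaf 123))))) (.node 130 (.node 127 (.node 125 (.leaf 124) (.node 126 (.leaf 125) (.leaf 126))) (.node 128 (.leaf 127) (.node 129 (.leaf 128) (.leaf 129)))) (.node 133 (.node 131 (.leaf 130) (.node 132 (.leaf 131) (.leaf 132))) (.node 134 (.leaf 133) (.node 135 (.leaf 134) (.leaf 135))))))) (.node 159 (.node 147 (.node 141 (.node 138 (.node 137 (.leaf 136) (.leaf 137)) (.node 139 (.leaf 138) (.node 140 (.leaf 139) (.leaf 140)))) (.node 144 (.node 142 (.leaf 141) (.node 143 (.leaf 142) (.leaf 143))) (.node 145 (.leaf 144) (.node 146 (.leaf 145) (.leaf 146))))) (.node 153 (.node 150 (.node 148 (.leaf 147) (.node 149 (.leaf 148) (.leaf 149))) (.node 151 (.leaf 150) (.node 152 (.leaf 151) (.leaf 152)))) (.node 156 (.node 154 (.leaf 153) (.node 155 (.leaf 154) (.leaf 155)))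 (.node 157 (.leaf 156) (.node 158 (.leaf 157) (.leaf 158)))))) (.node 170 (.node 164 (.node 161 (.node 160 (.leaf 159) (.leaf 160)) (.node 162 (.leaf 161) (.node 163 (.leaf 162) (.leaf 163)))) (.node 167 (.node 165 (.leaf 164) (.node 166 (.leaf 165) (.leaf 166))) (.node 168 (.leaf 167) (.node 169 (.leaf 168) (.leaf 169))))) (.node 176 (.node 173 (.node 171 (.leaf 170) (.node 172 (.leaf 171) (.leaf 172))) (.node 174 (.leaf 173) (.node 175 (.leaf 174) (.leaf 175)))) (.node 179 (.node 177 (.leaf 176) (.node 178 (.leaf 177) (.leaf 178))) (.node 180 (.leaf 179) (.node 181 (.leaf 180) (.leaf 181))))))))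

def threePos_182 : Table (ℕ) := (.node 227 (.node 204 (.node 193 (.node 187 (.node 184 (.node 183 (.leaf 182) (.leaf 183)) (.node 185 (.leaf 184) (.node 186 (.leaf 185) (.leaf 186)))) (.node 190 (.node 188 (.leaf 187) (.node 189 (.leaf 188) (.leaf 189))) (.node 191 (.leaf 190) (.node 192 (.leaf 191) (.leaf 192))))) (.node 198 (.node 195 (.node 194 (.leaf 193) (.leaf 194)) (.node 196 (.leaf 195) (.node 197 (.leaf 196) (.leaf 197)))) (.node 201 (.node 199 (.leaf 198) (.node 200 (.leaf 199) (.leaf 200))) (.node 202 (.leaf 201) (.node 203 (.leaf 202) (.leaf 203)))))) (.node 215 (.node 209 (.node 206 (.node 205 (.leaf 204) (.leaf 205)) (.node 207 (.leaf 206) (.node 208 (.leaf 207) (.leaf 208)))) (.node 212 (.node 210 (.leaf 209) (.node 211 (.leaf 210) (.leaf 211))) (.node 213 (.leaf 212) (.node 214 (.leaf 213) (.leaf 214))))) (.node 221 (.node 218 (.node 216 (.leaf 215) (.node 217 (.leaf 216) (.leaf 217))) (.node 219 (.leaf 218) (.node 220 (.leaf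 219) (.leaf 220)))) (.node 224 (.node 222 (.leaf 221) (.node 223 (.leaf 222) (.leaf 223))) (.node 225 (.leaf 224) (.node 226 (.leaf 225) (.leaf 226))))))) (.node 250 (.node 238 (.node 232 (.node 229 (.node 228 (.leaf 227) (.leaf 228)) (.node 230 (.leaf 229) (.node 231 (.leaf 230) (.leaf 231)))) (.node 235 (.node 233 (.leaf 232) (.node 234 (.leaf 233) (.leaf 234))) (.node 236 (.leaf 235) (.node 237 (.leaf 236) (.leaf 237))))) (.node 244 (.node 241 (.node 239 (.leaf 238) (.node 240 (.leaf 239) (.leaf 240))) (.node 242 (.leaf 241) (.node 243 (.leaf 242) (.leaf 243)))) (.node 247 (.node 245 (.leaf 244) (.node 246 (.leaf 245) (.leaf 246))) (.node 248 (.leaf 247) (.node 249 (.leaf 248) (.leaf 249)))))) (.node 261 (.node 255 (.node 252 (.node 251 (.leaf 250) (.leaf 251)) (.node 253 (.leaf 252) (.node 254 (.leaf 253) (.leaf 254)))) (.node 258 (.node 256 (.leaf 255) (.node 257 (.leaf 256) (.leaf 257))) (.node 259 (.leaf 258) (.node 260 (.leaf 259)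 (.leaf 260))))) (.node 267 (.node 264 (.node 262 (.leaf 261) (.node 263 (.leaf 262) (.leaf 263))) (.node 265 (.leaf 264) (.node 266 (.leaf 265) (.leaf 266)))) (.node 270 (.node 268 (.leaf 267) (.node 269 (.leaf 268) (.leaf 269))) (.node 271 (.leaf 270) (.node 272 (.leaf 271) (.leaf 272))))))))

def threePos_273 : Table (ℕ) := (.node 318 (.node 295 (.node 284 (.node 278 (.node 275 (.node 274 (.leaf 273) (.leaf 274)) (.node 276 (.leaf 275) (.node 277 (.leaf 276) (.leaf 277)))) (.node 281 (.node 279 (.leaf 278) (.node 280 (.leaf 279) (.leaf 280))) (.node 282 (.leaf 281) (.node 283 (.leaf 282) (.leaf 283))))) (.node 289 (.node 286 (.node 285 (.leaf 284) (.leaf 285)) (.node 287 (.leaf 286) (.node 288 (.leaf 287) (.leaf 288)))) (.node 292 (.node 290 (.leaf 289) (.node 291 (.leaf 290) (.leaf 291))) (.node 293 (.leaf 292) (.node 294 (.leaf 293) (.leaf 294)))))) (.node 306 (.node 300 (.node 297 (.node 296 (.leaf 295) (.leaf 296)) (.node 298 (.leaf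 297) (.node 299 (.leaf 298) (.leaf 299)))) (.node 303 (.node 301 (.leaf 300) (.node 302 (.leaf 301) (.leaf 302))) (.node 304 (.leaf 303) (.node 305 (.leaf 304) (.leaf 305))))) (.node 312 (.node 309 (.node 307 (.leaf 306) (.node 308 (.leaf 307) (.leaf 308))) (.node 310 (.leaf 309) (.node 311 (.leaf 310) (.leaf 311)))) (.node 315 (.node 313 (.leaf 312) (.node 314 (.leaf 313) (.leaf 314))) (.node 316 (.leaf 315) (.node 317 (.leaf 316) (.leaf 317))))))) (.node 341 (.node 329 (.node 323 (.node 320 (.node 319 (.leaf 318) (.leaf 319)) (.node 321 (.leaf 320) (.node 322 (.leaf 321) (.leaf 322)))) (.node 326 (.node 324 (.leaf 323) (.node 325 (.leaf 324) (.leaf 325))) (.node 327 (.leaf 326) (.node 328 (.leaf 327) (.leaf 328))))) (.node 335 (.node 332 (.node 330 (.leaf 329) (.node 331 (.leaf 330) (.leaf 331))) (.node 333 (.leaf 332) (.node 334 (.leaf 333) (.leaf 334)))) (.node 338 (.node 336 (.leaf 335) (.node 337 (.leaf 336) (.leaf 337))) (.node 339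 (.leaf 338) (.node 340 (.leaf 339) (.leaf 340)))))) (.node 352 (.node 346 (.node 343 (.node 342 (.leaf 341) (.leaf 342)) (.node 344 (.leaf 343) (.node 345 (.leaf 344) (.leaf 345)))) (.node 349 (.node 347 (.leaf 346) (.node 348 (.leaf 347) (.leaf 348))) (.node 350 (.leaf 349) (.node 351 (.leaf 350) (.leaf 351))))) (.node 358 (.node 355 (.node 353 (.leaf 352) (.node 354 (.leaf 353) (.leaf 354))) (.node 356 (.leaf 355) (.node 357 (.leaf 356) (.leaf 357)))) (.node 361 (.node 359 (.leaf 358) (.node 360 (.leaf 359) (.leaf 360))) (.node 362 (.leaf 361) (.node 363 (.leaf 362) (.leaf 363))))))))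

def threePos_364 : Table (ℕ) := (.node 409 (.node 386 (.node 375 (.node 369 (.node 366 (.node 365 (.leaf 364) (.leaf 365)) (.node 367 (.leaf 366) (.node 368 (.leaf 367) (.leaf 368)))) (.node 372 (.node 370 (.leaf 369) (.node 371 (.leaf 370) (.leaf 371))) (.node 373 (.leaf 372) (.node 374 (.leaf 373) (.leaf 374))))) (.node 380 (.node 377 (.node 376 (.leaf 375) (.leaf 376)) (.node 378 (.leaf 377) (.node 379 (.leaf 378) (.leaf 379)))) (.node 383 (.node 381 (.leaf 380) (.node 382 (.leaf 381) (.leaf 382))) (.node 384 (.leaf 383) (.node 385 (.leaf 384) (.leaf 385)))))) (.node 397 (.node 391 (.node 388 (.node 387 (.leaf 386) (.leaf 387)) (.node 389 (.leaf 388) (.node 390 (.leaf 389) (.leaf 390)))) (.node 394 (.node 392 (.leaf 391) (.node 393 (.leaf 392) (.leaf 393))) (.node 395 (.leaf 394) (.node 396 (.leaf 395) (.leaf 396))))) (.node 403 (.node 400 (.node 398 (.leaf 397) (.node 399 (.leaf 398) (.leaf 399))) (.node 401 (.leaf 400) (.node 402 (.leaf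 401) (.leaf 402)))) (.node 406 (.node 404 (.leaf 403) (.node 405 (.leaf 404) (.leaf 405))) (.node 407 (.leaf 406) (.node 408 (.leaf 407) (.leaf 408))))))) (.node 432 (.node 420 (.node 414 (.node 411 (.node 410 (.leaf 409) (.leaf 410)) (.node 412 (.leaf 411) (.node 413 (.leaf 412) (.leaf 413)))) (.node 417 (.node 415 (.leaf 414) (.node 416 (.leaf 415) (.leaf 416))) (.node 418 (.leaf 417) (.node 419 (.leaf 418) (.leaf 419))))) (.node 426 (.node 423 (.node 421 (.leaf 420) (.node 422 (.leaf 421) (.leaf 422))) (.node 424 (.leaf 423) (.node 425 (.leaf 424) (.leaf 425)))) (.node 429 (.node 427 (.leaf 426) (.node 428 (.leaf 427) (.leaf 428))) (.node 430 (.leaf 429) (.node 431 (.leaf 430) (.leaf 431)))))) (.node 443 (.node 437 (.node 434 (.node 433 (.leaf 432) (.leaf 433)) (.node 435 (.leaf 434) (.node 436 (.leaf 435) (.leaf 436)))) (.node 440 (.node 438 (.leaf 437) (.node 439 (.leaf 438) (.leaf 439))) (.node 441 (.leaf 440) (.node 442 (.leaf 441)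 (.leaf 442))))) (.node 449 (.node 446 (.node 444 (.leaf 443) (.node 445 (.leaf 444) (.leaf 445))) (.node 447 (.leaf 446) (.node 448 (.leaf 447) (.leaf 448)))) (.node 452 (.node 450 (.leaf 449) (.node 451 (.leaf 450) (.leaf 451))) (.node 453 (.leaf 452) (.node 454 (.leaf 453) (.leaf 454))))))))

def threePos_455 : Table (ℕ) := (.node 500 (.node 477 (.node 466 (.node 460 (.node 457 (.node 456 (.leaf 455) (.leaf 456)) (.node 458 (.leaf 457) (.node 459 (.leaf 458) (.leaf 459)))) (.node 463 (.node 461 (.leaf 460) (.node 462 (.leaf 461) (.leaf 462))) (.node 464 (.leaf 463) (.node 465 (.leaf 464) (.leaf 465))))) (.node 471 (.node 468 (.node 467 (.leaf 466) (.leaf 467)) (.node 469 (.leaf 468) (.node 470 (.leaf 469) (.leaf 470)))) (.node 474 (.node 472 (.leaf 471) (.node 473 (.leaf 472) (.leaf 473))) (.node 475 (.leaf 474) (.node 476 (.leaf 475) (.leaf 476)))))) (.node 488 (.node 482 (.node 479 (.node 478 (.leaf 477) (.leaf 478)) (.node 480 (.leaf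 479) (.node 481 (.leaf 480) (.leaf 481)))) (.node 485 (.node 483 (.leaf 482) (.node 484 (.leaf 483) (.leaf 484))) (.node 486 (.leaf 485) (.node 487 (.leaf 486) (.leaf 487))))) (.node 494 (.node 491 (.node 489 (.leaf 488) (.node 490 (.leaf 489) (.leaf 490))) (.node 492 (.leaf 491) (.node 493 (.leaf 492) (.leaf 493)))) (.node 497 (.node 495 (.leaf 494) (.node 496 (.leaf 495) (.leaf 496))) (.node 498 (.leaf 497) (.node 499 (.leaf 498) (.leaf 499))))))) (.node 523 (.node 511 (.node 505 (.node 502 (.node 501 (.leaf 500) (.leaf 501)) (.node 503 (.leaf 502) (.node 504 (.leaf 503) (.leaf 504)))) (.node 508 (.node 506 (.leaf 505) (.node 507 (.leaf 506) (.leaf 507))) (.node 509 (.leaf 508) (.node 510 (.leaf 509) (.leaf 510))))) (.node 517 (.node 514 (.node 512 (.leaf 511) (.node 513 (.leaf 512) (.leaf 513))) (.node 515 (.leaf 514) (.node 516 (.leaf 515) (.leaf 516)))) (.node 520 (.node 518 (.leaf 517) (.node 519 (.leaf 518) (.leaf 519))) (.node 521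 (.leaf 520) (.node 522 (.leaf 521) (.leaf 522)))))) (.node 534 (.node 528 (.node 525 (.node 524 (.leaf 523) (.leaf 524)) (.node 526 (.leaf 525) (.node 527 (.leaf 526) (.leaf 527)))) (.node 531 (.node 529 (.leaf 528) (.node 530 (.leaf 529) (.leaf 530))) (.node 532 (.leaf 531) (.node 533 (.leaf 532) (.leaf 533))))) (.node 540 (.node 537 (.node 535 (.leaf 534) (.node 536 (.leaf 535) (.leaf 536))) (.node 538 (.leaf 537) (.node 539 (.leaf 538) (.leaf 539)))) (.node 543 (.node 541 (.leaf 540) (.node 542 (.leaf 541) (.leaf 542))) (.node 544 (.leaf 543) (.node 545 (.leaf 544) (.leaf 545))))))))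

def threePos_546 : Table (ℕ) := (.node 591 (.node 568 (.node 557 (.node 551 (.node 548 (.node 547 (.leaf 546) (.leaf 547)) (.node 549 (.leaf 548) (.node 550 (.leaf 549) (.leaf 550)))) (.node 554 (.node 552 (.leaf 551) (.node 553 (.leaf 552) (.leaf 553))) (.node 555 (.leaf 554) (.node 556 (.leaf 555) (.leaf 556))))) (.node 562 (.node 559 (.node 558 (.leaf 557) (.leaf 558)) (.node 560 (.leaf 559) (.node 561 (.leaf 560) (.leaf 561)))) (.node 565 (.node 563 (.leaf 562) (.node 564 (.leaf 563) (.leaf 564))) (.node 566 (.leaf 565) (.node 567 (.leaf 566) (.leaf 567)))))) (.node 579 (.node 573 (.node 570 (.node 569 (.leaf 568) (.leaf 569)) (.node 571 (.leaf 570) (.node 572 (.leaf 571) (.leaf 572)))) (.node 576 (.node 574 (.leaf 573) (.node 575 (.leaf 574) (.leaf 575))) (.node 577 (.leaf 576) (.node 578 (.leaf 577) (.leaf 578))))) (.node 585 (.node 582 (.node 580 (.leaf 579) (.node 581 (.leaf 580) (.leaf 581))) (.node 583 (.leaf 582) (.node 584 (.leaf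 583) (.leaf 584)))) (.node 588 (.node 586 (.leaf 585) (.node 587 (.leaf 586) (.leaf 587))) (.node 589 (.leaf 588) (.node 590 (.leaf 589) (.leaf 590))))))) (.node 614 (.node 602 (.node 596 (.node 593 (.node 592 (.leaf 591) (.leaf 592)) (.node 594 (.leaf 593) (.node 595 (.leaf 594) (.leaf 595)))) (.node 599 (.node 597 (.leaf 596) (.node 598 (.leaf 597) (.leaf 598))) (.node 600 (.leaf 599) (.node 601 (.leaf 600) (.leaf 601))))) (.node 608 (.node 605 (.node 603 (.leaf 602) (.node 604 (.leaf 603) (.leaf 604))) (.node 606 (.leaf 605) (.node 607 (.leaf 606) (.leaf 607)))) (.node 611 (.node 609 (.leaf 608) (.node 610 (.leaf 609) (.leaf 610))) (.node 612 (.leaf 611) (.node 613 (.leaf 612) (.leaf 613)))))) (.node 625 (.node 619 (.node 616 (.node 615 (.leaf 614) (.leaf 615)) (.node 617 (.leaf 616) (.node 618 (.leaf 617) (.leaf 618)))) (.node 622 (.node 620 (.leaf 619) (.node 621 (.leaf 620) (.leaf 621))) (.node 623 (.leaf 622) (.node 624 (.leaf 623)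 (.leaf 624))))) (.node 631 (.node 628 (.node 626 (.leaf 625) (.node 627 (.leaf 626) (.leaf 627))) (.node 629 (.leaf 628) (.node 630 (.leaf 629) (.leaf 630)))) (.node 634 (.node 632 (.leaf 631) (.node 633 (.leaf 632) (.leaf 633))) (.node 635 (.leaf 634) (.node 636 (.leaf 635) (.leaf 636))))))))

def threePos_637 : Table (ℕ) := (.node 683 (.node 660 (.node 648 (.node 642 (.node 639 (.node 638 (.leaf 637) (.leaf 638)) (.node 640 (.leaf 639) (.node 641 (.leaf 640) (.leaf 641)))) (.node 645 (.node 643 (.leaf 642) (.node 644 (.leaf 643) (.leaf 644))) (.node 646 (.leaf 645) (.node 647 (.leaf 646) (.leaf 647))))) (.node 654 (.node 651 (.node 649 (.leaf 648) (.node 650 (.leaf 649) (.leaf 650))) (.node 652 (.leaf 651) (.node 653 (.leaf 652) (.leaf 653)))) (.node 657 (.node 655 (.leaf 654) (.node 656 (.leaf 655) (.leaf 656))) (.node 658 (.leaf 657) (.node 659 (.leaf 658) (.leaf 659)))))) (.node 671 (.node 665 (.node 662 (.node 661 (.leaf 660) (.leaf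 661)) (.node 663 (.leaf 662) (.node 664 (.leaf 663) (.leaf 664)))) (.node 668 (.node 666 (.leaf 665) (.node 667 (.leaf 666) (.leaf 667))) (.node 669 (.leaf 668) (.node 670 (.leaf 669) (.leaf 670))))) (.node 677 (.node 674 (.node 672 (.leaf 671) (.node 673 (.leaf 672) (.leaf 673))) (.node 675 (.leaf 674) (.node 676 (.leaf 675) (.leaf 676)))) (.node 680 (.node 678 (.leaf 677) (.node 679 (.leaf 678) (.leaf 679))) (.node 681 (.leaf 680) (.node 682 (.leaf 681) (.leaf 682))))))) (.node 706 (.node 694 (.node 688 (.node 685 (.node 684 (.leaf 683) (.leaf 684)) (.node 686 (.leaf 685) (.node 687 (.leaf 686) (.leaf 687)))) (.node 691 (.node 689 (.leaf 688) (.node 690 (.leaf 689) (.leaf 690))) (.node 692 (.leaf 691) (.node 693 (.leaf 692) (.leaf 693))))) (.node 700 (.node 697 (.node 695 (.leaf 694) (.node 696 (.leaf 695) (.leaf 696))) (.node 698 (.leaf 697) (.node 699 (.leaf 698) (.leaf 699)))) (.node 703 (.node 701 (.leaf 700) (.node 702 (.leaf 701) (.leaf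 702))) (.node 704 (.leaf 703) (.node 705 (.leaf 704) (.leaf 705)))))) (.node 717 (.node 711 (.node 708 (.node 707 (.leaf 706) (.leaf 707)) (.node 709 (.leaf 708) (.node 710 (.leaf 709) (.leaf 710)))) (.node 714 (.node 712 (.leaf 711) (.node 713 (.leaf 712) (.leaf 713))) (.node 715 (.leaf 714) (.node 716 (.leaf 715) (.leaf 716))))) (.node 723 (.node 720 (.node 718 (.leaf 717) (.node 719 (.leaf 718) (.leaf 719))) (.node 721 (.leaf 720) (.node 722 (.leaf 721) (.leaf 722)))) (.node 726 (.node 724 (.leaf 723) (.node 725 (.leaf 724) (.leaf 725))) (.node 727 (.leaf 726) (.node 728 (.leaf 727) (.leaf 728))))))))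

def threePos : Table (ℕ) := (.node 364 (.node 182 (.node 91 threePos_0 threePos_91) (.node 273 threePos_182 threePos_273)) (.node 546 (.node 455 threePos_364 threePos_455) (.node 637 threePos_546 threePos_637)))

def threeFind_0 : Table ℕ := (.node 17539229356619 (.node 8322497974859 (.node 2774314848843 (.node 2763308995147 (.node 2754316407371 (.leaf 497) (.leaf 659)) (.node 2769476457035 (.leaf 380) (.node 2771923833419 (.leaf 461) (.leaf 299)))) (.node 2781153399371 (.node 2774473970251 (.leaf 47) (.node 2779976897099 (.leaf 578) (.leaf 209))) (.node 8315225313867 (.leaf 128) (.node 8319245292107 (.leaf 2) (.leaf 83))))) (.node 8339646386763 (.node 8333369610827 (.node 8329477296715 (.leaf 164) (.leaf 281)) (.node 8337639674443 (.leaf 641) (.node 8338579198539 (.leaf 362) (.leaf 722)))) (.node 17530607964747 (.node 8347296797259 (.leaf 560) (.node 17524037849675 (.leaf 443) (.leaf 65))) (.node 17532225131083 (.leaf 515) (.node 17538526810699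 (.leaf 344) (.leaf 425)))))) (.node 71764272812619 (.node 71743299719755 (.node 17543255888459 (.node 17539472888395 (.leaf 263) (.leaf 677)) (.node 17545000718923 (.leaf 596) (.node 17557048857163 (.leaf 227) (.leaf 146)))) (.node 71756029170251 (.node 71743949574731 (.leaf 5) (.node 71755682878027 (.leaf 446) (.leaf 284))) (.node 71757908218443 (.leaf 563) (.node 71761419113035 (.leaf 86) (.leaf 725))))) (.node 71953887334987 (.node 71949895930443 (.node 71768299344459 (.leaf 644) (.node 71775377756747 (.leaf 167) (.leaf 365))) (.node 71949973787211 (.leaf 230) (.node 71950934544971 (.leaf 428) (.leaf 68)))) (.node 71977509655115 (.node 71964391445067 (.leaf 680) (.node 71969089065547 (.leaf 266) (.leaf 599))) (.node 71978830598731 (.leaf 347) (.node 71985004614219 (.leaf 518) (.leaf 149)))))))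

def threeFind_45 : Table ℕ := (.node 111757258986059 (.node 105705390019147 (.node 78503154356811 (.node 78498322518603 (.node 78495023436363 (.leaf 50) (.leaf 302)) (.node 78500392145483 (.leaf 464) (.node 78503041372747 (.leaf 581) (.leaf 662)))) (.node 78511765525067 (.node 78503288574539 (.leaf 131) (.node 78510458475083 (.leaf 500) (.leaf 212))) (.node 105690689507915 (.leaf 383) (.node 105691288769099 (.leaf 0) (.leaf 639))))) (.node 105718811791947 (.node 105715716395595 (.node 105705587675723 (.leaf 81) (.node 105713308865099 (.leaf 720) (.leaf 441))) (.node 105715984831051 (.leaf 162) (.node 105716190876235 (.leaf 279) (.leaf 360)))) (.node 111747201045067 (.node 111739944899147 (.leaf 558) (.node 111741698118219 (.leaf 297) (.leaf 495))) (.node 111752364757579 (.leaf 126) (.node 111754717237835 (.leaf 378) (.leaf 459)))))) (.node 121322222981707 (.node 121301750059595 (.node 111762431087179 (.node 111759344079435 (.leaf 207) (.leaf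 657)) (.node 111767325315659 (.leaf 45) (.node 121300684706379 (.leaf 576) (.leaf 423)))) (.node 121308595163723 (.node 121304237806155 (.leaf 225) (.node 121305848418891 (.leaf 63) (.leaf 675))) (.node 121313695437387 (.leaf 261) (.node 121314106479179 (.leaf 594) (.leaf 144))))) (.node 703912276988491 (.node 703897378820683 (.node 121325917639243 (.leaf 342) (.node 703893754942027 (.leaf 513) (.leaf 7))) (.node 703904402182731 (.leaf 367) (.node 703908417704523 (.leaf 646) (.leaf 88)))) (.node 703923047436875 (.node 703915139600971 (.leaf 727) (.node 703918763479627 (.leaf 286) (.leaf 169))) (.node 703926000226891 (.leaf 448) (.node 710149016195659 (.leaf 565) (.leaf 601)))))))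

def threeFind_91 : Table ℕ := (.node 809461769376331 (.node 719505424192075 (.node 710177056690763 (.node 710159978009163 (.node 710154239677003 (.leaf 70) (.leaf 520)) (.node 710165390758475 (.leaf 349) (.node 710168198320715 (.leaf 268) (.leaf 430)))) (.node 719493791289931 (.node 710182436409931 (.leaf 151) (.node 710183600329291 (.leaf 232) (.leaf 682))) (.node 719501666095691 (.leaf 583) (.node 719503991837259 (.leaf 52) (.leaf 214))))) (.node 719526227939915 (.node 719522100220491 (.node 719516071432779 (.leaf 664) (.leaf 304)) (.node 719524650357323 (.leaf 466) (.node 719525187228235 (.leaf 133) (.leaf 502)))) (.node 809458548150859 (.node 809447452119627 (.leaf 385) (.node 809448783286859 (.leaf 295) (.leaf 547))) (.node 809461131317835 (.leaf 16) (.node 809461276545611 (.leaf 97) (.leaf 628)))))) (.node 815735418458699 (.node 815701819986507 (.node 809470940222027 (.node 809463514206795 (.leaf 376) (.leaf 709)) (.node 809474955743819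 (.leaf 178) (.node 815700790284875 (.leaf 457) (.leaf 610)))) (.node 815708799308363 (.node 815702792540747 (.leaf 691) (.node 815704370123339 (.leaf 412) (.leaf 331))) (.node 815730049749579 (.leaf 79) (.node 815731380916811 (.leaf 241) (.leaf 160))))) (.node 825063807980107 (.node 825050665652811 (.node 815735944319563 (.leaf 250) (.node 825049279435339 (.leaf 529) (.leaf 394))) (.node 825050755830347 (.leaf 196) (.node 825063539544651 (.leaf 673) (.leaf 511)))) (.node 825075586110027 (.node 825065821246027 (.leaf 475) (.node 825069590352459 (.leaf 115) (.leaf 592))) (.node 825082743689803 (.leaf 34) (.node 1412738236879435 (.leaf 313) (.leaf 715)))))))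

def threeFind_136 : Table ℕ := (.node 1424302973194827 (.node 1421419171091019 (.node 1412760662250059 (.node 1412744331465291 (.node 1412740573368907 (.leaf 103) (.leaf 634)) (.node 1412747900555851 (.leaf 184) (.node 1412758772191819 (.leaf 22) (.leaf 355)))) (.node 1421396219859531 (.node 1412764598342219 (.leaf 553) (.node 1412771533886027 (.leaf 274) (.leaf 436))) (.node 1421408488460875 (.leaf 652) (.node 1421413142303307 (.leaf 571) (.leaf 490))))) (.node 1424280558834251 (.node 1421424863023691 (.node 1421420568056395 (.leaf 400) (.node 1421423063405131 (.leaf 202) (.leaf 40))) (.node 1421426027205195 (.leaf 319) (.node 1421429382648395 (.leaf 481) (.leaf 121)))) (.node 1424290948387403 (.node 1424280704062027 (.leaf 697) (.node 1424285122237003 (.leaf 418) (.leaf 337))) (.node 1424294394270283 (.leaf 616) (.node 1424300612063819 (.leaf 139) (.leaf 220)))))) (.node 1727574285029963 (.node 1727541535904331 (.node 1424314795364939 (.node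 1424304101724747 (.leaf 58) (.leaf 256)) (.node 1727539060478539 (.leaf 535) (.node 1727539597349451 (.leaf 3) (.leaf 723)))) (.node 1727561609056843 (.node 1727542170554955 (.leaf 165) (.node 1727554689241675 (.leaf 444) (.leaf 642))) (.node 1727570624713291 (.leaf 363) (.node 1727572906414667 (.leaf 561) (.leaf 84))))) (.node 1729750431765067 (.node 1729745086124619 (.node 1729742512919115 (.leaf 282) (.node 1729743207076427 (.leaf 678) (.leaf 147))) (.node 1729746562519627 (.leaf 516) (.node 1729748746441291 (.leaf 426) (.leaf 264)))) (.node 1729763450884683 (.node 1729752370319947 (.leaf 66) (.node 1729761765560907 (.leaf 228) (.leaf 597))) (.node 1737435067781707 (.leaf 345) (.node 1737447415812683 (.leaf 660) (.leaf 48)))))))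

def threeFind_182 : Table ℕ := (.node 1803427807564363 (.node 1801709954863691 (.node 1737466400019019 (.node 1737457675866699 (.node 1737452038722123 (.leaf 462) (.leaf 210)) (.node 1737459115823691 (.leaf 300) (.node 1737463947661899 (.leaf 129) (.leaf 498)))) (.node 1801690468389451 (.node 1737468622213707 (.leaf 579) (.node 1801689260429899 (.leaf 381) (.leaf 305))) (.node 1801703780848203 (.leaf 584) (.node 1801707941597771 (.leaf 134) (.leaf 467))))) (.node 1803405367513675 (.node 1801719592849995 (.node 1801717043499595 (.leaf 503) (.leaf 215)) (.node 1801720532374091 (.leaf 53) (.node 1801722545640011 (.leaf 386) (.leaf 665)))) (.node 1803414520009291 (.node 1803406038602315 (.leaf 8) (.node 1803407784219211 (.leaf 368) (.leaf 170))) (.node 1803417045242443 (.leaf 566) (.node 1803426305479243 (.leaf 287) (.leaf 728)))))) (.node 1809970090807883 (.node 1809949312750155 (.node 1803439216071243 (.node 1803428722184779 (.leaf 449) (.leaf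 647)) (.node 1809934255460939 (.leaf 89) (.node 1809935194985035 (.leaf 269) (.leaf 233)))) (.node 1809960452821579 (.node 1809953314378315 (.leaf 431) (.node 1809955058422347 (.leaf 602) (.leaf 71))) (.node 1809965258969675 (.leaf 152) (.node 1809969579627083 (.leaf 350) (.leaf 521))))) (.node 2744389798269515 (.node 2744385234866763 (.node 2744381170586187 (.leaf 683) (.node 2744384257593931 (.leaf 6) (.leaf 366))) (.node 2744386547683915 (.leaf 87) (.node 2744388426732107 (.leaf 285) (.leaf 168)))) (.node 2744406709703243 (.node 2744396077142603 (.leaf 564) (.node 2744396739842635 (.leaf 645) (.leaf 726))) (.node 2760744870154827 (.leaf 447) (.node 2760748082991691 (.leaf 267) (.leaf 69)))))))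

def threeFind_227 : Table ℕ := (.node 2927620733342283 (.node 2762948217737803 (.node 2760769461359179 (.node 2760754965844555 (.node 2760752780612171 (.leaf 231) (.leaf 348)) (.node 2760760036758091 (.leaf 429) (.node 2760765837480523 (.leaf 600) (.leaf 519)))) (.node 2762939061572171 (.node 2760772779053643 (.leaf 150) (.node 2762936905699915 (.leaf 681) (.leaf 663))) (.node 2762940001096267 (.leaf 582) (.node 2762944556110411 (.leaf 213) (.leaf 51))))) (.node 2927591717409355 (.node 2762967142437451 (.node 2762952110051915 (.leaf 132) (.node 2762952617562699 (.leaf 465) (.leaf 303))) (.node 2762968581083723 (.leaf 501) (.node 2927590911316555 (.leaf 384) (.leaf 395)))) (.node 2927602186392139 (.node 2927594266759755 (.leaf 197) (.node 2927598159073867 (.leaf 35) (.leaf 674))) (.node 2927610935448139 (.leaf 593) (.node 2927618183205451 (.leaf 116) (.leaf 512)))))) (.node 2935838188835403 (.node 2929319636439627 (.node 2929310643065419 (.node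 2927622855922251 (.leaf 476) (.leaf 314)) (.node 2929313730859595 (.leaf 17) (.node 2929315877556811 (.leaf 296) (.leaf 377)))) (.node 2929330532979275 (.node 2929322479915595 (.leaf 629) (.node 2929322857665099 (.leaf 548) (.leaf 179))) (.node 2929330667197003 (.leaf 98) (.node 2929334265385547 (.leaf 458) (.leaf 710))))) (.node 2935851744039499 (.node 2935845972677195 (.node 2935838750609995 (.leaf 242) (.node 2935840898093643 (.leaf 530) (.leaf 413))) (.node 2935847852511819 (.leaf 692) (.node 2935848254378571 (.leaf 611) (.leaf 332)))) (.node 3167969788367435 (.node 2935852843471435 (.leaf 80) (.node 2935868656259659 (.leaf 161) (.leaf 251))) (.node 3167971667415627 (.leaf 356) (.node 3167975057986123 (.leaf 716) (.leaf 275)))))))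

def threeFind_273 : Table ℕ := (.node 3174735604945483 (.node 3168191819616843 (.node 3168004395307595 (.node 3167989419283019 (.node 3167978893939275 (.leaf 185) (.leaf 104)) (.node 3167997281768011 (.leaf 635) (.node 3167999584703051 (.leaf 554) (.leaf 23)))) (.node 3168182657684043 (.node 3168176081015371 (.leaf 437) (.node 3168177267741259 (.leaf 59) (.leaf 419))) (.node 3168188542030411 (.leaf 698) (.node 3168190880092747 (.leaf 140) (.leaf 221))))) (.node 3174709800014411 (.node 3168205185028683 (.node 3168203899212363 (.leaf 257) (.leaf 617)) (.node 3168210709189195 (.leaf 536) (.node 3174707631297099 (.leaf 338) (.leaf 122)))) (.node 3174721858376267 (.node 3174711657828939 (.leaf 653) (.node 3174721780519499 (.leaf 482) (.leaf 320))) (.node 3174724966617675 (.leaf 491) (.node 3174726979883595 (.leaf 41) (.leaf 401)))))) (.node 3207485358412363 (.node 3205302283997771 (.node 3205283359298123 (.node 3174736410251851 (.leaf 203) (.leaf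 572)) (.node 3205294424658507 (.leaf 714) (.node 3205299062772299 (.leaf 633) (.leaf 21)))) (.node 3205314959970891 (.node 3205305125638731 (.leaf 354) (.node 3205312373396043 (.leaf 552) (.leaf 102))) (.node 3205318583849547 (.leaf 183) (.node 3205319084282443 (.leaf 273) (.leaf 435))))) (.node 3207510762000971 (.node 3207498891334219 (.node 3207486334374475 (.leaf 417) (.node 3207496095830603 (.leaf 615) (.leaf 138))) (.node 3207499830858315 (.leaf 57) (.node 3207500927668811 (.leaf 696) (.leaf 534)))) (.node 3215182378897995 (.node 3207515191185995 (.leaf 219) (.node 3207517279162955 (.leaf 255) (.leaf 336))) (.node 3215186905862731 (.leaf 570) (.node 3215197643280971 (.leaf 480) (.leaf 489)))))))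

def threeFind_318 : Table ℕ := (.node 3313552298938955 (.node 3307489084904011 (.node 3215214823150155 (.node 3215206344364619 (.node 3215203794227787 (.leaf 651) (.leaf 39)) (.node 3215208148701771 (.leaf 399) (.node 3215213114757707 (.leaf 201) (.leaf 318)))) (.node 3307481371054667 (.node 3307468952244811 (.leaf 120) (.node 3307470096765515 (.leaf 9) (.leaf 90))) (.node 3307485800239691 (.leaf 450) (.node 3307486668984907 (.leaf 540) (.leaf 369))))) (.node 3313522842866251 (.node 3307504179679819 (.node 3307489549947467 (.leaf 702) (.node 3307502569067083 (.leaf 288) (.leaf 621))) (.node 3313517679153739 (.leaf 171) (.node 3313521034596939 (.leaf 108) (.leaf 468)))) (.node 3313545596441163 (.node 3313524381651531 (.leaf 27) (.node 3313538277904971 (.leaf 585) (.leaf 387))) (.node 3313546867839563 (.leaf 504) (.node 3313548943495755 (.leaf 666) (.leaf 306)))))) (.node 3732915319542347 (.node 3323097737925195 (.node 3323071897342539 (.node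 3323070357508683 (.leaf 189) (.leaf 405)) (.node 3323073239519819 (.leaf 324) (.node 3323083440067147 (.leaf 684) (.leaf 72)))) (.node 3323102964027979 (.node 3323098811667019 (.leaf 522) (.node 3323102695592523 (.leaf 153) (.leaf 234))) (.node 3323103098245707 (.leaf 243) (.node 3732913977365067 (.leaf 603) (.leaf 550))))) (.node 3732935258477131 (.node 3732928204444235 (.node 3732917834027595 (.leaf 433) (.node 3732923605389899 (.leaf 271) (.leaf 181))) (.node 3732933379428939 (.leaf 100) (.node 3732934453170763 (.leaf 712) (.leaf 352)))) (.node 3735801099260491 (.node 3732946019750475 (.leaf 19) (.node 3735800672752203 (.leaf 631) (.leaf 37))) (.node 3735813482943051 (.leaf 568) (.node 3735816435733067 (.leaf 478) (.leaf 487)))))))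

def threeFind_364 : Table ℕ := (.node 4151998099821131 (.node 3747305339032139 (.node 3747275080536651 (.node 3735829261128267 (.node 3735826734846539 (.leaf 649) (.leaf 316)) (.node 3735830528594507 (.leaf 397) (.node 3735832640426571 (.leaf 118) (.leaf 199)))) (.node 3747293760655947 (.node 3747284132631115 (.leaf 55) (.node 3747288099656267 (.leaf 532) (.leaf 694))) (.node 3747297226461771 (.leaf 217) (.node 3747304095421003 (.leaf 334) (.leaf 613))))) (.node 4151981445812811 (.node 3747306412773963 (.node 3747306242904651 (.leaf 415) (.leaf 253)) (.node 4151971346453067 (.leaf 136) (.node 4151978090369611 (.leaf 25) (.leaf 439)))) (.node 4151986691314251 (.node 4151984801256011 (.leaf 106) (.node 4151985841967691 (.leaf 556) (.leaf 358))) (.node 4151987496620619 (.leaf 187) (.node 4151987721015883 (.leaf 637) (.leaf 718)))))) (.node 4167577915429451 (.node 4158238139421259 (.node 4158231261286987 (.node 4158220836344395 (.leaf 277) (.leaf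 259)) (.node 4158232871899723 (.leaf 700) (.node 4158236271383115 (.leaf 61) (.leaf 223)))) (.node 4158249682145867 (.node 4158246595138123 (.leaf 421) (.node 4158248709591627 (.leaf 538) (.leaf 340))) (.node 4158250498462283 (.leaf 142) (.node 4167568788623947 (.leaf 619) (.leaf 655))))) (.node 4167595005121099 (.node 4167588283224651 (.node 4167580901249611 (.leaf 403) (.node 4167586941047371 (.leaf 493) (.leaf 484))) (.node 4167593216250443 (.leaf 124) (.node 4167594199814731 (.leaf 43) (.leaf 322)))) (.node 4262670820250187 (.node 4167595407774283 (.leaf 205) (.node 4262669289067083 (.leaf 574) (.leaf 4))) (.node 4262672923955787 (.leaf 283) (.node 4262673326608971 (.leaf 445) (.leaf 85)))))))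

def threeFind_409 : Table ℕ := (.node 4612520133071435 (.node 4271359484301899 (.node 4271329876972107 (.node 4262685674639947 (.node 4262677744783947 (.leaf 166) (.leaf 724)) (.node 4262687865901643 (.leaf 562) (.node 4262700964450891 (.leaf 643) (.leaf 364)))) (.node 4271356005651019 (.node 4271342170214987 (.leaf 301) (.node 4271350368506443 (.leaf 661) (.leaf 499))) (.node 4271356945175115 (.leaf 130) (.node 4271358868001355 (.leaf 463) (.leaf 211))))) (.node 4274237569831499 (.node 4274215960777291 (.node 4271360075960907 (.leaf 49) (.node 4271361900221003 (.leaf 580) (.leaf 382))) (.node 4274218590343755 (.leaf 598) (.node 4274232291562059 (.leaf 679) (.leaf 427)))) (.node 4274249326203467 (.node 4274238588785227 (.leaf 265) (.node 4274239448879691 (.leaf 346) (.leaf 229))) (.node 4274250008302155 (.leaf 67) (.node 4274250679390795 (.leaf 517) (.leaf 148)))))) (.node 4615418028036683 (.node 4612545559728715 (.node 4612522572845643 (.node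 4612520559579723 (.leaf 1) (.leaf 280)) (.node 4612528612643403 (.leaf 163) (.node 4612530736271947 (.leaf 640) (.leaf 721)))) (.node 4612554015445579 (.node 4612549392536139 (.leaf 559) (.node 4612551867961931 (.leaf 361) (.leaf 442))) (.node 4615407081689675 (.leaf 82) (.node 4615415000535627 (.leaf 496) (.leaf 127))))) (.node 4615441137341003 (.node 4615428789310027 (.node 4615420712391243 (.leaf 658) (.node 4615423554818635 (.leaf 379) (.leaf 298))) (.node 4615434402599499 (.leaf 577) (.node 4615435401630283 (.leaf 46) (.leaf 460)))) (.node 4626891630514763 (.node 4626884272394827 (.leaf 208) (.node 4626887896273483 (.leaf 595) (.leaf 226))) (.node 4626898341401163 (.leaf 343) (.node 4626900145738315 (.leaf 676) (.leaf 145)))))))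

def threeFind_455 : Table ℕ := (.node 6876499942380107 (.node 6868269039424075 (.node 6868249712071243 (.node 4626907736642123 (.node 4626905917100619 (.leaf 262) (.leaf 424)) (.node 4626911956898379 (.leaf 64) (.node 6868240988705355 (.leaf 514) (.leaf 575)))) (.node 6868260987146827 (.node 6868254276260427 (.leaf 404) (.node 6868256314430027 (.leaf 323) (.leaf 494))) (.node 6868261414703691 (.leaf 206) (.node 6868261925884491 (.leaf 485) (.leaf 656))))) (.node 6869970811687499 (.node 6869955351745099 (.node 6868270004638283 (.leaf 44) (.leaf 125)) (.node 6869956693135947 (.leaf 638) (.node 6869963538240075 (.leaf 359) (.leaf 26)))) (.node 6869984342774347 (.node 6869983000597067 (.leaf 440) (.node 6869984207770187 (.leaf 188) (.leaf 719))) (.node 6869986649379403 (.leaf 278) (.node 6869989736387147 (.leaf 557) (.leaf 107)))))) (.node 7177627929219659 (.node 6876514303677003 (.node 6876506249826891 (.node 6876501820641867 (.leaf 224) (.leaf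 701)) (.node 6876508825653835 (.leaf 62) (.node 6876513094931019 (.leaf 422) (.leaf 341)))) (.node 6876519806603851 (.node 6876515939193419 (.leaf 620) (.node 6876517281370699 (.leaf 539) (.leaf 143))) (.node 7177619041489483 (.leaf 260) (.node 7177626289246795 (.leaf 276) (.leaf 636))))) (.node 7177644266033739 (.node 7177637429318219 (.node 7177631649567307 (.leaf 438) (.node 7177634468139595 (.leaf 357) (.leaf 717))) (.node 7177643095822923 (.leaf 186) (.node 7177644169564747 (.leaf 105) (.leaf 555)))) (.node 7193986490765899 (.node 7193969168290379 (.leaf 24) (.node 7193984641077835 (.leaf 60) (.leaf 537))) (.node 7193988227207755 (.leaf 618) (.node 7193993998570059 (.leaf 699) (.leaf 339)))))))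

def threeFind_500 : Table ℕ := (.node 7957939842781771 (.node 7196197190963787 (.node 7196180950618699 (.node 7194001284076107 (.node 7193996586455627 (.leaf 222) (.leaf 420)) (.node 7194002865328715 (.leaf 141) (.node 7196168728416843 (.leaf 258) (.leaf 654)))) (.node 7196188861076043 (.node 7196183903408715 (.leaf 573) (.node 7196185677599307 (.leaf 204) (.leaf 492))) (.node 7196194401751627 (.leaf 42) (.node 7196196146582091 (.leaf 483) (.leaf 123))))) (.node 7955051074622027 (.node 7955040605639243 (.node 7196197853663819 (.leaf 321) (.node 7955036018381387 (.leaf 402) (.leaf 370))) (.node 7955047889048139 (.leaf 172) (.node 7955049708589643 (.leaf 91) (.leaf 10)))) (.node 7955067082183243 (.node 7955052124508747 (.leaf 289) (.node 7955058492248651 (.leaf 703) (.leaf 541))) (.node 7955069462450763 (.leaf 451) (.node 7957926322442827 (.leaf 622) (.leaf 505)))))) (.node 7969416374194763 (.node 7957957535666763 (.node 7957941354828363 (.node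 7957940892668491 (.leaf 586) (.leaf 667)) (.node 7957947200901707 (.leaf 109) (.node 7957951519724107 (.leaf 388) (.leaf 307)))) (.node 7969399352398411 (.node 7957958096392779 (.leaf 28) (.node 7957958266262091 (.leaf 190) (.leaf 469))) (.node 7969405159412299 (.leaf 604) (.node 7969412481880651 (.leaf 406) (.leaf 325))))) (.node 8058601111360075 (.node 7969428880298571 (.node 7969419192767051 (.leaf 73) (.node 7969424620982859 (.leaf 685) (.leaf 523))) (.node 7969430526562891 (.leaf 235) (.node 7969432906830411 (.leaf 154) (.leaf 244)))) (.node 8058618693882443 (.node 8058606402212427 (.leaf 95) (.node 8058614285931083 (.leaf 293) (.leaf 374))) (.node 8058624754913867 (.leaf 545) (.node 8058625595347531 (.leaf 707) (.leaf 176)))))))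

def threeFind_546 : Table ℕ := (.node 8092547653636683 (.node 8058836988269131 (.node 8058806464483915 (.node 8058630928929355 (.node 8058628950790731 (.leaf 455) (.leaf 626)) (.node 8058804317000267 (.leaf 14) (.node 8058805948846667 (.leaf 410) (.leaf 329)))) (.node 8058819271529035 (.node 8058813634384459 (.leaf 158) (.node 8058816149393995 (.leaf 608) (.leaf 689))) (.node 8058825276199499 (.leaf 239) (.node 8058825926054475 (.leaf 77) (.leaf 527))))) (.node 8065361142682187 (.node 8065346145423947 (.node 8065345876988491 (.leaf 248) (.leaf 590)) (.node 8065353873691211 (.leaf 194) (.node 8065356960698955 (.leaf 113) (.leaf 473)))) (.node 8065365013762635 (.node 8065361947988555 (.leaf 671) (.node 8065363727946315 (.leaf 392) (.leaf 311))) (.node 8065366108738123 (.leaf 509) (.node 8092543895540299 (.leaf 32) (.leaf 549)))))) (.node 8098601401651787 (.node 8092572609745483 (.node 8092559590625867 (.node 8092555564094027 (.leaf 432) (.leaf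 630)) (.node 8092562749461067 (.leaf 180) (.node 8092568520823371 (.leaf 351) (.leaf 18)))) (.node 8098593554633291 (.node 8092575231709771 (.leaf 270) (.node 8092575839359563 (.leaf 711) (.leaf 99))) (.node 8098597715382859 (.leaf 36) (.node 8098599057560139 (.leaf 648) (.leaf 396))))) (.node 8108147109073483 (.node 8098622079570507 (.node 8098608120926795 (.leaf 315) (.node 8098609865757259 (.leaf 117) (.leaf 486))) (.node 8098624352883275 (.leaf 477) (.node 8098627037237835 (.leaf 567) (.leaf 198)))) (.node 8108165828776523 (.node 8108159851369035 (.leaf 531) (.node 8108165426123339 (.leaf 612) (.leaf 54))) (.node 8108169246609995 (.leaf 693) (.node 8108171528311371 (.leaf 252) (.leaf 216)))))))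

def threeFind_591 : Table ℕ := (.node 8391421499871819 (.node 8376665902748235 (.node 8376653120606795 (.node 8108175895106123 (.node 8108175697449547 (.leaf 414) (.leaf 135)) (.node 8376630066614859 (.leaf 333) (.node 8376640369922635 (.leaf 587) (.leaf 506)))) (.node 8376658898522699 (.node 8376656239071819 (.leaf 110) (.node 8376658764304971 (.leaf 308) (.leaf 389))) (.node 8376664267231819 (.leaf 29) (.node 8376665065984587 (.leaf 668) (.leaf 470))))) (.node 8382224773485131 (.node 8382212150465099 (.node 8382197654950475 (.leaf 191) (.node 8382204238172747 (.leaf 542) (.leaf 371))) (.node 8382214329406027 (.leaf 452) (.node 8382221015388747 (.leaf 290) (.leaf 11)))) (.node 8382232314581579 (.node 8382229764444747 (.leaf 704) (.node 8382230940947019 (.leaf 623) (.leaf 92))) (.node 8391415869280843 (.leaf 173) (.node 8391416565273163 (.leaf 686) (.leaf 605)))))) (.node 8655377022128715 (.node 8391438015205963 (.node 8391425130304075 (.node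 8391423410377291 (.leaf 155) (.leaf 236)) (.node 8391429150282315 (.leaf 74) (.node 8391437203345995 (.leaf 407) (.leaf 524)))) (.node 8655370051195467 (.node 8391439248069195 (.leaf 326) (.node 8655356121911883 (.leaf 245) (.leaf 96))) (.node 8655373809291851 (.leaf 627) (.node 8655376216822347 (.leaf 294) (.leaf 708))))) (.node 8671721796997707 (.node 8655380146885195 (.node 8655378670490187 (.leaf 15) (.node 8655379035394635 (.leaf 546) (.leaf 375))) (.node 8655389110112843 (.leaf 456) (.node 8671711453844043 (.leaf 177) (.leaf 78)))) (.node 8671744739840587 (.node 8671735919219275 (.leaf 240) (.node 8671736158294603 (.leaf 411) (.leaf 609))) (.node 8671745717113419 (.leaf 330) (.node 8671745956188747 (.leaf 159) (.leaf 249)))))))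

def threeFind_637 : Table ℕ := (.node 8986051440349771 (.node 8977383749915211 (.node 8673915048890955 (.node 8673910611317323 (.node 8671747461943883 (.leaf 690) (.leaf 528)) (.node 8673911722807883 (.leaf 393) (.node 8673914377802315 (.leaf 114) (.leaf 195)))) (.node 8673939602346571 (.node 8673920551817803 (.leaf 312) (.node 8673934002950731 (.leaf 591) (.leaf 474))) (.node 8673942592885323 (.leaf 672) (.node 8673945776362059 (.leaf 510) (.leaf 33))))) (.node 8977392339849803 (.node 8977390101926475 (.node 8977386836922955 (.leaf 454) (.node 8977387497001547 (.leaf 94) (.leaf 13))) (.node 8977390718227019 (.leaf 292) (.node 8977391791968843 (.leaf 373) (.leaf 706)))) (.node 8986040782361163 (.node 8977408221319755 (.leaf 544) (.node 8977408355537483 (.leaf 175) (.leaf 625))) (.node 8986049695519307 (.leaf 31) (.node 8986051117126219 (.leaf 193) (.leaf 670)))))) (.node 8988952690758219 (.node 8986063610384971 (.node 8986053409837643 (.node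 8986053007184459 (.leaf 310) (.leaf 508)) (.node 8986054795792971 (.leaf 112) (.node 8986056351617611 (.leaf 589) (.leaf 391)))) (.node 8988941416469067 (.node 8988920423715403 (.leaf 472) (.node 8988930624262731 (.leaf 688) (.leaf 76))) (.node 8988944996569675 (.leaf 607) (.node 8988949694190155 (.leaf 409) (.leaf 157))))) (.node 9081081976918603 (.node 8988955106677323 (.node 8988953452286539 (.leaf 238) (.node 8988953843929675 (.leaf 526) (.leaf 328))) (.node 9081074303439435 (.leaf 247) (.node 9081074729161291 (.leaf 12) (.leaf 543)))) (.node 9081094190731851 (.node 9081093362356811 (.leaf 453) (.node 9081093765009995 (.leaf 705) (.leaf 372))) (.node 9081096240435787 (.leaf 93) (.node 9081099595878987 (.leaf 291) (.leaf 174)))))))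

def threeFind_683 : Table ℕ := (.node 9502538538488395 (.node 9090984328893003 (.node 9083286748467787 (.node 9083279121125963 (.node 9083277278515787 (.leaf 624) (.leaf 606)) (.node 9083282745004619 (.leaf 408) (.node 9083286480032331 (.leaf 156) (.leaf 327)))) (.node 9083302779884107 (.node 9083289455891019 (.leaf 75) (.node 9083297083232843 (.leaf 525) (.leaf 687))) (.node 9083306940633675 (.leaf 237) (.node 9090970199593547 (.leaf 246) (.leaf 111))))) (.node 9091001046602315 (.node 9090997825376843 (.node 9090987013247563 (.leaf 192) (.node 9090992516174411 (.leaf 588) (.leaf 309))) (.node 9090999459058251 (.leaf 30) (.node 9091000509731403 (.leaf 507) (.leaf 390)))) (.node 9502531827601995 (.node 9091001472324171 (.leaf 669) (.node 9502530082771531 (.leaf 471) (.leaf 38))) (.node 9502533999989323 (.leaf 650) (.node 9502534536860235 (.leaf 317) (.leaf 200)))))) (.node 9508127255368267 (.node 9508097190597195 (.node 9502544066318923 (.node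 9502542155813451 (.leaf 398) (.leaf 479)) (.node 9502548732482123 (.leaf 569) (.node 9502553430102603 (.leaf 488) (.leaf 119)))) (.node 9508100111929931 (.node 9508097434128971 (.leaf 632) (.node 9508099306623563 (.leaf 353) (.leaf 551))) (.node 9508123740803659 (.leaf 434) (.node 9508126552822347 (.leaf 20) (.leaf 101))))) (.node 9517321681703499 (.node 9517314702381643 (.node 9508127364682315 (.leaf 182) (.node 9508131550335563 (.leaf 713) (.leaf 272))) (.node 9517320767083083 (.leaf 695) (.node 9517321279050315 (.leaf 218) (.leaf 56)))) (.node 9517333920420427 (.node 9517326641205835 (.leaf 335) (.node 9517333754745419 (.leaf 416) (.leaf 533))) (.node 9517336738992715 (.leaf 254) (.node 9517337244406347 (.leaf 614) (.leaf 137)))))))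

def threeFind : Table ℕ := (.node 3735822013370955 (.node 1737451331195467 (.node 710152596034123 (.node 78494183002699 threeFind_0 threeFind_45) (.node 1412739724284491 threeFind_91 threeFind_136)) (.node 3167976668598859 (.node 2760748762468939 threeFind_182 threeFind_227) (.node 3215203257356875 threeFind_273 threeFind_318))) (.node 8058627954905675 (.node 4626903465529931 (.node 4262676591612491 threeFind_364 threeFind_409) (.node 7193996288660043 threeFind_455 threeFind_500)) (.node 8671746082017867 (.node 8108174221054539 threeFind_546 threeFind_591) (.node 9081106038329931 threeFind_637 threeFind_683))))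

def threeWt : List ℕ := [1, 2, 3, 6, 9, 18, 27, 54, 81, 162, 243, 486]

def threeT_2 : List (ℕ × ℤ) := [(0, 1)]

def threeT_4 : List (ℕ × ℤ) := [(1, 1), (13, 1), (21, 1), (22, -1), (28, -1), (32, 2), (33, -1), (34, -1), (37, -2), (39, 1), (44, -1), (51, -1), (52, -1), (55, 1), (56, -1), (58, 1), (59, 1), (63, -1), (77, -1)]

def threeT_5 : List (ℕ × ℤ) := [(13, -1), (21, -1), (22, 1), (28, 1), (32, -2), (33, 1), (34, 1), (37, 2), (39, -1), (44, 1), (51, 1), (52, 1), (55, -1), (56, 1), (58, -1), (59, -1), (63, 1), (77, 1)]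

def threeT_8 : List (ℕ × ℤ) := [(1, -1), (3, -1), (13, -1), (21, -1), (22, 1), (28, 1), (32, -2), (33, 1), (34, 1), (37, 2), (39, -1), (44, 1), (51, 1), (52, 1), (55, -1), (56, 1), (58, -1), (59, -1), (63, 1), (77, 1)]

def threeT_9 : List (ℕ × ℤ) := [(4, -1), (13, 1), (21, 1), (22, -1), (28, -1), (32, 2), (33, -1), (34, -1), (37, -2), (39, 1), (44, -1), (51, -1), (52, -1), (55, 1), (56, -1), (58, 1), (59, 1), (63, -1), (77, -1)]

def threeT_10 : List (ℕ × ℤ) := [(2, 1)]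

def threeT_12 : List (ℕ × ℤ) := [(5, -1), (12, -1), (15, -2), (17, 1), (23, -1), (25, 1), (26, 1), (31, 1), (32, -6), (33, 1), (37, 6), (39, -1), (55, -3), (56, 3), (58, -1), (61, 2), (63, 2), (67, -1), (68, 1), (72, 1)]

def threeT_13 : List (ℕ × ℤ) := [(0, -3), (3, -1), (4, -1), (5, 38), (6, 2), (7, -2), (8, 51), (9, 13), (11, -17), (12, -39), (13, 2), (14, -2), (15, -28), (16, -26), (17, 15), (18, 4), (21, 19), (22, -19), (23, -41), (24, 13), (25, 13), (26, 13), (27, -51), (28, 11), (29, -41), (30, 14), (31, -37), (32, -128), (33, -14), (35, -13), (36, -1), (37, 128), (39, 33), (40, 3), (41, 6), (42, 2), (43, 13), (44, 2), (45, 1), (46, 15), (47, -1), (48, 3), (49, 1), (50, -16), (51, -4), (53, 5), (54, -12), (55, -64), (56, 64), (57, 1), (58, 39), (59, 18), (60, -19), (61, 40), (62, 2), (63, 12), (65, -2), (67, -30), (69, 1), (71, 3), (73, 3), (74, 2), (75, 13), (76, 1)]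

def threeT_14 : List (ℕ × ℤ) := []

def threeT_15 : List (ℕ × ℤ) := [(5, -3), (7, -1), (8, -4), (9, -2), (12, 3), (15, 2), (16, 2), (17, -1), (18, 1), (21, -1), (22, 1), (23, 3), (24, -1), (25, -1), (26, -1), (27, 4), (28, -1), (29, 3), (30, -1), (31, 3), (32, 6), (33, 3), (35, 1), (37, -6), (39, -4), (40, 1), (42, -1), (43, -1), (45, 1), (46, -1), (50, 1), (54, 1), (55, 3), (56, -3), (58, -3), (59, -1), (60, 1), (61, -2), (63, 1), (66, -1), (67, 2), (70, 1), (75, -1)]

def threeT_18 : List (ℕ × ℤ) := [(5, -1), (12, -1), (15, -2), (17, 1), (23, -1), (24, -1), (26, 1), (29, -1), (31, 1), (32, -2), (33, 1), (37, 2), (39, -1), (55, -1), (56, 1), (58, -1), (63, 1), (67, -1), (69, 1), (73, 1)]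

def threeT_19 : List (ℕ × ℤ) := [(0, -3), (3, -1), (4, -1), (5, 39), (6, 2), (7, -2), (8, 53), (9, 13), (11, -17), (12, -40), (13, 2), (14, -2), (15, -29), (16, -26), (17, 16), (18, 4), (21, 19), (22, -19), (23, -42), (24, 13), (25, 14), (26, 14), (27, -51), (28, 11), (29, -42), (30, 14), (31, -38), (32, -128), (33, -15), (35, -13), (36, -1), (37, 128), (39, 34), (40, 3), (41, 6), (42, 2), (43, 13), (44, 2), (45, 1), (46, 15), (47, -1), (48, 3), (49, 1), (50, -16), (51, -4), (53, 5), (54, -12), (55, -64), (56, 64), (57, 1), (58, 40), (59, 18), (60, -19), (61, 41), (62, 2), (63, 12), (65, -2), (67, -31), (68, 1), (71, 3), (73, 3), (74, 2), (75, 13), (76, 1)]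

def threeT_20 : List (ℕ × ℤ) := [(7, -2), (11, -4), (14, -2), (18, 2), (27, -1), (32, -8), (33, 4), (37, 8), (39, -2), (40, 2), (41, 2), (42, -3), (45, 1), (46, 2), (48, 1), (50, -1), (53, 2), (55, -4), (56, 4), (60, -2), (61, 2), (63, 3), (66, -1), (67, -1), (70, 1), (71, 1), (72, 1), (73, 1)]

def threeT_21 : List (ℕ × ℤ) := [(5, 6), (8, 8), (9, 3), (11, -4), (12, -6), (14, -1), (15, -4), (16, -4), (17, 2), (21, 2), (22, -2), (23, -6), (24, 2), (25, 2), (26, 2), (27, -8), (28, 2), (29, -6), (30, 2), (31, -6), (32, -18), (33, -3), (35, -2), (37, 18), (39, 6), (41, 2), (42, -1), (43, 2), (46, 3), (50, -3), (53, 1), (54, -2), (55, -9), (56, 9), (58, 6), (59, 2), (60, -3), (61, 6), (63, 1), (67, -4), (71, 1), (75, 2)]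

def threeT_22 : List (ℕ × ℤ) := [(10, 1)]

def threeT_24 : List (ℕ × ℤ) := [(27, -1), (32, -2), (37, 2), (55, -1), (56, 1), (61, 1), (72, 1)]

def threeT_25 : List (ℕ × ℤ) := [(17, 1), (67, -1), (73, 1)]

def threeT_26 : List (ℕ × ℤ) := [(0, -1), (1, 2), (3, 1), (4, -1), (5, 9), (7, -1), (8, 12), (9, 3), (11, -5), (12, -9), (13, 4), (14, -1), (15, -6), (16, -6), (17, 4), (18, 1), (19, 1), (21, 8), (22, -8), (23, -9), (24, 3), (25, 3), (26, 3), (27, -12), (29, -9), (30, 3), (31, -9), (32, -26), (33, -5), (34, -3), (35, -3), (37, 26), (39, 11), (40, 1), (41, 2), (42, -1), (43, 3), (44, -3), (46, 4), (48, 1), (50, -4), (51, -5), (52, -3), (53, 2), (54, -3), (55, -13), (56, 13), (57, 1), (58, 12), (59, 8), (60, -5), (61, 10), (62, 1), (63, 1), (65, -1), (67, -9), (71, 1), (73, 2), (74, 1), (75, 3), (77, -3)]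

def threeT_27 : List (ℕ × ℤ) := [(0, 1), (1, -2), (3, -1), (4, 1), (5, -9), (7, 1), (8, -12), (9, -3), (11, 5), (12, 9), (13, -4), (14, 1), (15, 6), (16, 6), (17, -4), (18, -1), (21, -8), (22, 8), (23, 9), (24, -3), (25, -3), (26, -3), (27, 11), (29, 9), (30, -3), (31, 9), (32, 24), (33, 6), (34, 3), (35, 3), (37, -24), (39, -11), (40, -1), (41, -2), (42, 1), (43, -3), (44, 3), (46, -4), (48, -1), (50, 4), (51, 5), (52, 3), (53, -2), (54, 3), (55, 12), (56, -12), (57, -1), (58, -12), (59, -8), (60, 5), (61, -9), (62, -1), (63, -1), (65, 1), (67, 8), (71, -1), (72, 1), (73, -1), (74, -1), (75, -3), (77, 3)]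

def threeT_28 : List (ℕ × ℤ) := [(0, 3), (3, 1), (4, 1), (5, -39), (6, -2), (7, 2), (8, -52), (9, -13), (11, 17), (12, 39), (13, -2), (14, 2), (15, 27), (16, 26), (17, -15), (18, -4), (21, -19), (22, 19), (23, 41), (24, -13), (25, -13), (26, -13), (27, 51), (28, -11), (29, 41), (30, -14), (31, 38), (32, 126), (33, 15), (35, 13), (36, 1), (37, -126), (39, -34), (40, -3), (41, -6), (42, -2), (43, -13), (44, -2), (45, -1), (46, -15), (47, 1), (48, -3), (49, -1), (50, 16), (51, 4), (53, -5), (54, 12), (55, 63), (56, -63), (57, -1), (58, -40), (59, -18), (60, 19), (61, -40), (62, -2), (63, -11), (65, 2), (67, 30), (71, -3), (73, -3), (74, -2), (75, -13), (76, -1)]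

def threeT_29 : List (ℕ × ℤ) := [(0, -3), (3, -1), (4, -1), (5, 39), (6, 2), (7, -2), (8, 52), (9, 13), (11, -17), (12, -39), (13, 2), (14, -2), (15, -27), (16, -26), (17, 15), (18, 4), (21, 19), (22, -19), (23, -41), (24, 14), (25, 13), (26, 13), (27, -51), (28, 11), (29, -41), (30, 14), (31, -38), (32, -126), (33, -15), (35, -13), (36, -1), (37, 126), (39, 34), (40, 3), (41, 6), (42, 2), (43, 13), (44, 2), (45, 1), (46, 15), (47, -1), (48, 3), (49, 1), (50, -16), (51, -4), (53, 5), (54, -12), (55, -63), (56, 63), (57, 1), (58, 40), (59, 18), (60, -19), (61, 40), (62, 2), (63, 11), (65, -2), (67, -30), (71, 3), (73, 3), (74, 2), (75, 13), (76, 1)]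

def threeT_30 : List (ℕ × ℤ) := [(0, -3), (3, -1), (4, -1), (5, 38), (6, 2), (7, -2), (8, 50), (9, 13), (11, -17), (12, -37), (13, 2), (14, -2), (15, -25), (16, -26), (17, 13), (18, 4), (21, 19), (22, -19), (23, -39), (24, 13), (25, 11), (26, 12), (27, -51), (28, 11), (29, -40), (30, 14), (31, -37), (32, -124), (33, -14), (35, -13), (36, -1), (37, 124), (39, 33), (40, 3), (41, 6), (42, 2), (43, 13), (44, 2), (45, 1), (46, 15), (47, -1), (48, 3), (49, 1), (50, -16), (51, -4), (53, 5), (54, -12), (55, -62), (56, 62), (57, 1), (58, 39), (59, 18), (60, -19), (61, 38), (62, 2), (63, 10), (65, -2), (67, -28), (68, -2), (69, 1), (71, 3), (73, 3), (74, 2), (75, 13), (76, 1)]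

def threeT_31 : List (ℕ × ℤ) := [(0, 3), (3, 1), (4, 1), (5, -38), (6, -2), (7, 2), (8, -52), (9, -13), (11, 17), (12, 40), (13, -2), (14, 2), (15, 29), (16, 26), (17, -16), (18, -4), (21, -19), (22, 19), (23, 42), (24, -13), (25, -14), (26, -14), (27, 51), (28, -11), (29, 42), (30, -14), (31, 37), (32, 130), (33, 14), (35, 13), (36, 1), (37, -130), (39, -33), (40, -3), (41, -6), (42, -2), (43, -13), (44, -2), (45, -1), (46, -15), (47, 1), (48, -3), (49, -1), (50, 16), (51, 4), (53, -5), (54, 12), (55, 65), (56, -65), (57, -1), (58, -39), (59, -18), (60, 19), (61, -41), (62, -2), (63, -13), (65, 2), (67, 31), (68, -1), (69, -1), (71, -3), (73, -3), (74, -2), (75, -13), (76, -1)]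

def threeT_32 : List (ℕ × ℤ) := [(27, -1), (32, 2), (37, -2), (55, 1), (56, -1), (58, 1), (63, -1), (67, -1), (73, 1)]

def threeT_33 : List (ℕ × ℤ) := [(31, 1), (32, -4), (33, 1), (37, 4), (39, -1), (55, -2), (56, 2), (58, -1), (61, 1), (63, 1), (72, 1)]

def threeT_34 : List (ℕ × ℤ) := [(0, 1), (1, -2), (3, -1), (4, 1), (5, -9), (7, 1), (8, -12), (9, -3), (11, 5), (12, 9), (13, -4), (14, 1), (15, 6), (16, 6), (17, -4), (21, -8), (22, 8), (23, 9), (24, -3), (25, -3), (26, -3), (27, 11), (28, 1), (29, 9), (30, -3), (31, 9), (32, 22), (33, 7), (34, 4), (35, 3), (37, -22), (39, -12), (40, -1), (41, -2), (42, 1), (43, -3), (44, 3), (46, -4), (48, -1), (50, 4), (51, 5), (52, 3), (53, -2), (54, 3), (55, 11), (56, -11), (57, -1), (58, -13), (59, -8), (60, 5), (61, -9), (62, -1), (65, 1), (67, 8), (71, -1), (72, 1), (73, -1), (74, -1), (75, -3), (77, 3)]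

def threeT_35 : List (ℕ × ℤ) := [(0, -1), (1, 2), (3, 1), (4, -1), (5, 9), (7, -1), (8, 12), (9, 3), (11, -5), (12, -9), (13, 4), (14, -1), (15, -6), (16, -6), (17, 4), (18, 1), (21, 8), (22, -8), (23, -9), (24, 3), (25, 3), (26, 3), (27, -12), (28, -1), (29, -9), (30, 3), (31, -9), (32, -24), (33, -6), (34, -3), (35, -3), (37, 24), (39, 11), (40, 1), (41, 2), (42, -1), (43, 3), (44, -3), (46, 4), (48, 1), (50, -4), (51, -5), (52, -3), (53, 2), (54, -3), (55, -12), (56, 12), (57, 1), (58, 13), (59, 8), (60, -5), (61, 10), (62, 1), (65, -1), (67, -9), (71, 1), (73, 2), (74, 1), (75, 3), (77, -3)]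

def threeT_36 : List (ℕ × ℤ) := [(0, -3), (3, -1), (4, -1), (5, 39), (6, 2), (7, -2), (8, 52), (9, 13), (11, -17), (12, -39), (13, 2), (14, -2), (15, -27), (16, -26), (17, 15), (18, 4), (21, 19), (22, -19), (23, -41), (24, 13), (25, 13), (26, 13), (27, -51), (28, 11), (29, -42), (30, 14), (31, -38), (32, -126), (33, -15), (35, -13), (36, -1), (37, 126), (39, 34), (40, 3), (41, 6), (42, 2), (43, 13), (44, 2), (45, 1), (46, 15), (47, -1), (48, 3), (49, 1), (50, -16), (51, -4), (53, 5), (54, -12), (55, -63), (56, 63), (57, 1), (58, 40), (59, 18), (60, -19), (61, 40), (62, 2), (63, 11), (65, -2), (67, -30), (71, 3), (73, 3), (74, 2), (75, 13), (76, 1)]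

def threeT_37 : List (ℕ × ℤ) := [(0, 3), (3, 1), (4, 1), (5, -39), (6, -2), (7, 2), (8, -52), (9, -13), (11, 17), (12, 39), (13, -2), (14, 2), (15, 27), (16, 26), (17, -15), (18, -4), (21, -19), (22, 19), (23, 41), (24, -14), (25, -13), (26, -13), (27, 51), (28, -11), (29, 41), (30, -15), (31, 38), (32, 126), (33, 15), (35, 13), (36, 1), (37, -126), (39, -34), (40, -3), (41, -6), (42, -2), (43, -13), (44, -2), (45, -1), (46, -15), (47, 1), (48, -3), (49, -1), (50, 16), (51, 4), (53, -5), (54, 12), (55, 63), (56, -63), (57, -1), (58, -40), (59, -18), (60, 19), (61, -40), (62, -2), (63, -11), (65, 2), (67, 30), (71, -3), (73, -3), (74, -2), (75, -13), (76, -1)]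

def threeT_38 : List (ℕ × ℤ) := [(25, 1)]

def threeT_39 : List (ℕ × ℤ) := [(0, 6), (3, 2), (4, 2), (5, -76), (6, -4), (7, 4), (8, -102), (9, -26), (11, 34), (12, 77), (13, -4), (14, 4), (15, 54), (16, 52), (17, -29), (18, -8), (21, -38), (22, 38), (23, 81), (24, -26), (25, -25), (26, -25), (27, 102), (28, -22), (29, 82), (30, -28), (31, 74), (32, 254), (33, 28), (35, 26), (36, 2), (37, -254), (39, -66), (40, -6), (41, -12), (42, -4), (43, -26), (44, -4), (45, -2), (46, -30), (47, 2), (48, -6), (49, -2), (50, 32), (51, 8), (53, -10), (54, 24), (55, 127), (56, -127), (57, -2), (58, -78), (59, -36), (60, 38), (61, -79), (62, -4), (63, -23), (65, 4), (67, 59), (68, 1), (69, -2), (71, -6), (73, -6), (74, -4), (75, -26), (76, -2)]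

def threeT_40 : List (ℕ × ℤ) := [(0, 1), (1, -2), (3, -1), (4, 1), (5, -9), (6, -1), (7, 1), (8, -12), (9, -3), (11, 5), (12, 9), (13, -4), (14, 1), (15, 6), (16, 6), (17, -4), (18, -1), (21, -9), (22, 9), (23, 9), (24, -3), (25, -3), (26, -3), (27, 11), (28, 1), (29, 9), (30, -3), (31, 9), (32, 22), (33, 6), (34, 3), (35, 3), (36, 1), (37, -22), (39, -11), (40, -1), (41, -2), (42, 1), (43, -3), (44, 2), (46, -4), (48, -1), (50, 4), (51, 5), (52, 3), (53, -2), (54, 3), (55, 11), (56, -11), (57, -1), (58, -13), (59, -9), (60, 5), (61, -9), (62, -1), (65, 1), (67, 8), (71, -1), (72, 1), (73, -1), (74, -1), (75, -3), (77, 3)]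

def threeT_41 : List (ℕ × ℤ) := [(0, -1), (1, 2), (3, 1), (4, -1), (5, 9), (6, 1), (7, -1), (8, 12), (9, 3), (11, -5), (12, -9), (13, 4), (14, -1), (15, -6), (16, -6), (17, 4), (18, 1), (21, 9), (22, -9), (23, -9), (24, 3), (25, 3), (26, 3), (27, -12), (28, -1), (29, -9), (30, 3), (31, -9), (32, -24), (33, -6), (34, -3), (35, -3), (37, 24), (39, 11), (40, 1), (41, 2), (42, -1), (43, 3), (44, -2), (46, 4), (48, 1), (50, -4), (51, -5), (52, -3), (53, 2), (54, -3), (55, -12), (56, 12), (57, 1), (58, 13), (59, 9), (60, -5), (61, 10), (62, 1), (65, -1), (67, -9), (71, 1), (73, 2), (74, 1), (75, 3), (77, -3)]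

def threeT_42 : List (ℕ × ℤ) := [(5, 9), (7, -1), (8, 12), (9, 3), (11, -5), (12, -9), (14, -1), (15, -6), (16, -6), (17, 3), (18, 1), (21, 3), (22, -3), (23, -9), (24, 3), (25, 3), (26, 3), (27, -13), (28, 3), (29, -9), (30, 3), (31, -9), (32, -28), (33, -4), (35, -3), (37, 28), (39, 8), (40, 1), (41, 2), (42, -1), (43, 3), (46, 4), (50, -4), (53, 1), (54, -3), (55, -14), (56, 14), (58, 9), (59, 3), (60, -4), (61, 10), (63, 1), (67, -7), (71, 1), (72, 1), (73, 1), (75, 3)]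

def threeT_43 : List (ℕ × ℤ) := [(5, -9), (7, 1), (8, -12), (9, -3), (11, 5), (12, 9), (14, 1), (15, 6), (16, 6), (17, -3), (21, -3), (22, 3), (23, 9), (24, -3), (25, -3), (26, -3), (27, 12), (28, -3), (29, 9), (30, -3), (31, 9), (32, 26), (33, 5), (35, 3), (37, -26), (39, -9), (41, -2), (42, 1), (43, -3), (46, -4), (50, 4), (53, -1), (54, 3), (55, 13), (56, -13), (58, -9), (59, -3), (60, 4), (61, -9), (63, -1), (67, 6), (71, -1), (75, -3)]

def threeT_44 : List (ℕ × ℤ) := [(5, -3), (8, -4), (9, -1), (11, 1), (12, 3), (15, 2), (16, 2), (17, -1), (21, -1), (22, 1), (23, 3), (24, -1), (25, -1), (26, -1), (27, 4), (28, -1), (29, 3), (30, -1), (31, 3), (32, 8), (33, 2), (35, 1), (37, -8), (39, -3), (43, -1), (46, -1), (50, 1), (54, 1), (55, 4), (56, -4), (58, -3), (59, -1), (60, 1), (61, -3), (67, 2), (75, -1)]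

def threeT_45 : List (ℕ × ℤ) := [(5, 3), (8, 4), (9, 1), (11, -1), (12, -3), (15, -2), (16, -2), (17, 1), (21, 1), (22, -1), (23, -3), (24, 1), (25, 1), (26, 1), (27, -4), (28, 1), (29, -3), (30, 1), (31, -3), (32, -8), (33, -2), (35, -1), (37, 8), (39, 3), (42, 1), (43, 1), (46, 1), (50, -1), (54, -1), (55, -4), (56, 4), (58, 3), (59, 1), (60, -1), (61, 3), (67, -2), (75, 1)]

def threeT_46 : List (ℕ × ℤ) := [(21, -1), (22, 1), (59, -1)]

def threeT_47 : List (ℕ × ℤ) := [(21, 1), (22, -1), (44, 1), (59, 1)]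

def threeT_48 : List (ℕ × ℤ) := [(5, 15), (7, 2), (8, 20), (9, 7), (11, -5), (12, -15), (14, -1), (15, -10), (16, -10), (17, 5), (18, -2), (21, 5), (22, -5), (23, -15), (24, 5), (25, 5), (26, 5), (27, -20), (28, 5), (29, -15), (30, 5), (31, -15), (32, -38), (33, -11), (35, -5), (37, 38), (39, 17), (40, -2), (41, 2), (42, 1), (43, 5), (45, -2), (46, 6), (50, -6), (53, 1), (54, -5), (55, -19), (56, 19), (58, 15), (59, 5), (60, -6), (61, 13), (63, -1), (66, 2), (67, -10), (70, -2), (71, 1), (75, 5)]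

def threeT_49 : List (ℕ × ℤ) := [(5, -6), (7, 1), (8, -8), (9, -2), (11, 4), (12, 6), (14, 1), (15, 4), (16, 4), (17, -2), (18, -1), (21, -2), (22, 2), (23, 6), (24, -2), (25, -2), (26, -2), (27, 8), (28, -2), (29, 6), (30, -2), (31, 6), (32, 20), (33, 2), (35, 2), (37, -20), (39, -5), (40, -1), (41, -2), (42, 1), (43, -2), (45, -1), (46, -3), (50, 3), (53, -1), (54, 2), (55, 10), (56, -10), (58, -6), (59, -2), (60, 3), (61, -7), (63, -2), (66, 1), (67, 4), (70, -1), (71, -1), (75, -2)]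

def threeT_50 : List (ℕ × ℤ) := [(0, -1), (1, 2), (3, 1), (4, -1), (5, 9), (6, 1), (7, -1), (8, 12), (9, 3), (11, -5), (12, -9), (13, 4), (14, -1), (15, -6), (16, -6), (17, 4), (18, 1), (21, 9), (22, -9), (23, -9), (24, 3), (25, 3), (26, 3), (27, -12), (28, -1), (29, -9), (30, 3), (31, -9), (32, -22), (33, -6), (34, -3), (35, -3), (36, -1), (37, 22), (39, 11), (40, 1), (41, 2), (42, -1), (43, 3), (44, -2), (46, 4), (47, -1), (48, 1), (50, -4), (51, -5), (52, -3), (53, 2), (54, -3), (55, -11), (56, 11), (57, 1), (58, 13), (59, 9), (60, -4), (61, 10), (62, 1), (63, -1), (65, -1), (67, -9), (71, 1), (73, 2), (74, 1), (75, 3), (77, -3)]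

def threeT_51 : List (ℕ × ℤ) := [(0, 1), (1, -2), (3, -1), (4, 1), (5, -9), (7, 1), (8, -12), (9, -3), (11, 5), (12, 9), (13, -3), (14, 1), (15, 6), (16, 6), (17, -4), (18, -1), (21, -7), (22, 7), (23, 9), (24, -3), (25, -3), (26, -3), (27, 11), (29, 9), (30, -3), (31, 9), (32, 24), (33, 6), (34, 3), (35, 3), (37, -24), (39, -11), (40, -1), (41, -2), (42, 1), (43, -3), (44, 3), (46, -4), (48, -1), (50, 4), (51, 4), (52, 3), (53, -2), (54, 3), (55, 12), (56, -12), (57, -1), (58, -12), (59, -7), (60, 5), (61, -9), (62, -1), (63, -1), (65, 1), (67, 8), (71, -1), (72, 1), (73, -1), (74, -1), (75, -3), (77, 3)]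

def threeT_52 : List (ℕ × ℤ) := [(5, -9), (7, 1), (8, -12), (9, -3), (11, 5), (12, 9), (14, 1), (15, 6), (16, 6), (17, -3), (18, -1), (21, -3), (22, 3), (23, 9), (24, -3), (25, -3), (26, -3), (27, 12), (28, -3), (29, 9), (30, -3), (31, 9), (32, 28), (33, 4), (35, 3), (37, -28), (39, -8), (40, -1), (41, -2), (42, 1), (43, -3), (46, -4), (48, -1), (50, 4), (53, -1), (54, 3), (55, 14), (56, -14), (58, -9), (59, -3), (60, 5), (61, -9), (63, -2), (67, 6), (71, -1), (75, -3)]

def threeT_53 : List (ℕ × ℤ) := [(5, 9), (7, -1), (8, 12), (9, 3), (11, -5), (12, -9), (14, -1), (15, -6), (16, -6), (17, 3), (18, 1), (21, 3), (22, -3), (23, -9), (24, 3), (25, 3), (26, 3), (27, -13), (28, 3), (29, -9), (30, 3), (31, -9), (32, -30), (33, -3), (35, -3), (37, 30), (39, 8), (40, 1), (41, 2), (42, -1), (43, 3), (46, 4), (48, 1), (50, -4), (53, 2), (54, -3), (55, -15), (56, 15), (58, 9), (59, 3), (60, -5), (61, 10), (63, 2), (67, -7), (71, 1), (72, 1), (73, 1),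 (75, 3)]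

def threeT_54 : List (ℕ × ℤ) := [(5, 3), (8, 4), (9, 1), (11, -1), (12, -3), (15, -2), (16, -2), (17, 1), (21, 1), (22, -1), (23, -3), (24, 1), (25, 1), (26, 1), (27, -4), (28, 1), (29, -3), (30, 1), (31, -3), (32, -8), (33, -2), (35, -1), (37, 8), (39, 3), (43, 1), (46, 1), (49, -1), (50, -1), (54, -1), (55, -4), (56, 4), (58, 3), (59, 1), (60, -1), (61, 3), (67, -2), (75, 1)]

def threeT_55 : List (ℕ × ℤ) := [(5, -3), (8, -4), (9, -1), (11, 1), (12, 3), (15, 2), (16, 2), (17, -1), (21, -1), (22, 1), (23, 3), (24, -1), (25, -1), (26, -1), (27, 4), (28, -1), (29, 3), (30, -1), (31, 3), (32, 8), (33, 2), (35, 1), (37, -8), (39, -3), (42, -1), (43, -1), (46, -1), (54, 1), (55, 4), (56, -4), (58, -3), (59, -1), (60, 1), (61, -3), (67, 2), (75, -1)]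

def threeT_56 : List (ℕ × ℤ) := [(21, 1), (22, -1), (51, -1), (59, 1)]

def threeT_57 : List (ℕ × ℤ) := [(21, -1), (22, 1), (44, -1), (52, -1), (59, -1)]

def threeT_58 : List (ℕ × ℤ) := [(45, 1)]

def threeT_59 : List (ℕ × ℤ) := [(5, -21), (7, -1), (8, -28), (9, -9), (11, 9), (12, 21), (14, 2), (15, 14), (16, 14), (17, -7), (18, 1), (21, -7), (22, 7), (23, 21), (24, -7), (25, -7), (26, -7), (27, 28), (28, -7), (29, 21), (30, -7), (31, 21), (32, 58), (33, 13), (35, 7), (37, -58), (39, -22), (40, 1), (41, -4), (43, -7), (45, 1), (46, -8), (50, 9), (53, -2), (54, 7), (55, 29), (56, -29), (58, -21), (59, -7), (60, 9), (61, -20), (63, -1), (66, -1), (67, 14), (70, 1), (71, -2), (75, -7)]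

def threeT_60 : List (ℕ × ℤ) := [(32, -2), (37, 2), (55, -1), (56, 1)]

def threeT_61 : List (ℕ × ℤ) := [(32, -1), (37, 1), (55, -1), (56, 1)]

def threeT_62 : List (ℕ × ℤ) := [(32, -2), (37, 1), (55, -1), (56, 1)]

def threeT_63 : List (ℕ × ℤ) := [(20, -1), (32, -2), (37, 2), (55, -1), (56, 1)]

def threeT_64 : List (ℕ × ℤ) := [(21, -1)]

def threeT_65 : List (ℕ × ℤ) := [(43, -1)]

def threeT_66 : List (ℕ × ℤ) := [(57, -1)]

def threeT_67 : List (ℕ × ℤ) := [(58, -1)]

def threeT_68 : List (ℕ × ℤ) := [(59, -1)]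

def threeT_69 : List (ℕ × ℤ) := [(60, -1)]

def threeT_70 : List (ℕ × ℤ) := [(16, 1), (17, 1), (27, 2), (32, 6), (37, -6), (55, 3), (56, -3), (61, -2), (67, -1), (72, -2), (73, 1)]

def threeT_71 : List (ℕ × ℤ) := [(27, 1), (61, -1), (63, 1), (67, 1), (72, -1), (73, -1)]

def threeT_72 : List (ℕ × ℤ) := [(32, 2), (37, -2), (55, 1), (56, -1), (63, -1)]

def threeT_73 : List (ℕ × ℤ) := [(32, 2), (33, -1), (37, -2), (39, 1), (55, 1), (56, -1), (63, -1)]

def threeT_74 : List (ℕ × ℤ) := [(18, -1), (32, 2), (33, -1), (37, -2), (39, 1), (55, 1), (56, -1), (63, -1)]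

def threeT_75 : List (ℕ × ℤ) := [(32, 2), (33, -1), (37, -2), (55, 1), (56, -1), (63, -1)]

def threeT_76 : List (ℕ × ℤ) := [(54, -1)]

def threeT_77 : List (ℕ × ℤ) := [(35, -1)]

def threeT_78 : List (ℕ × ℤ) := [(67, -1)]

def threeT_79 : List (ℕ × ℤ) := [(64, -1)]

def threeT_80 : List (ℕ × ℤ) := [(66, -1)]

def threeT_81 : List (ℕ × ℤ) := [(65, -1)]

def threeT_82 : List (ℕ × ℤ) := [(61, 1)]

def threeT_83 : List (ℕ × ℤ) := [(16, -1), (17, -1), (27, -1), (32, -6), (37, 6), (55, -3), (56, 3), (61, 1), (62, 1), (63, 1), (67, 2), (72, 1), (73, -2)]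

def threeEqs : List (List ℕ × List ℕ) := [([0, 2, 1], [0, 1]), ([4, 5, 1], [1]), ([6, 10, 7], [6, 7]), ([7], [8, 4, 7]), ([7], [9, 5, 7]), ([13, 33, 13, 3, 39], [3, 12]), ([15, 41, 13, 9], [9, 13, 35, 15, 47]), ([15, 43, 15, 11, 48], [11, 14]), ([16, 19], [13, 13, 36, 16, 39]), ([16, 21], [15, 15, 44, 16, 48]), ([16, 22, 17], [16, 17]), ([17], [21, 15, 45, 17, 49]), ([19, 25, 19, 3, 30], [3, 18]), ([21, 51, 19, 9], [9, 19, 27, 21, 56]), ([21, 53, 21, 11, 59], [11, 20]), ([22, 17], [13, 19, 28, 22, 17, 31]), ([24, 60, 24, 0, 70], [0, 25]), ([25, 72, 24, 2, 1, 71], [2, 1]), ([26, 73, 25, 5, 83], [5, 25, 74, 26, 83]), ([26, 75, 27, 7, 71], [7]), ([27, 60, 24, 8, 70], [8, 24, 63, 27, 70]), ([28, 24, 12, 66, 30, 70], [12, 24, 64, 28, 66, 30, 70]), ([28, 27, 15, 46], [15, 27, 64, 28, 68]), ([28, 28, 16], [16, 29]), ([28, 29, 17], [17]), ([30, 38, 31], [30, 31]), ([30, 39], [31]), ([31], [32, 24, 67, 31, 71]), ([31], [35, 27, 67, 31, 71]), ([31],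 [36, 28, 31]), ([31], [37, 29, 31]), ([32, 73, 33, 1, 71], [1]), ([34, 61, 33, 5, 70], [5, 33, 62, 34, 70]), ([35, 72, 32, 8, 83], [8, 32, 75, 35, 83]), ([35, 74, 34, 10, 7, 71], [10, 7]), ([37, 32, 18, 79, 39, 83], [18, 32, 77, 37, 79, 39, 83]), ([41, 72, 40, 2, 1, 71], [2, 1]), ([42, 60, 40, 4, 70], [4, 40, 62, 42, 70]), ([42, 62, 42, 6, 70], [6, 43]), ([43, 73, 41, 9, 83], [9, 41, 75, 43, 83]), ([43, 74, 42, 10, 7, 71], [10, 7]), ([44, 44, 16], [16, 45]), ([44, 45, 17], [17]), ([45, 42, 20, 68, 48, 70], [20, 42, 65, 45, 68, 48, 70]), ([46, 47, 31], [31]), ([48, 58, 49], [48, 49]), ([48, 59], [49]), ([49], [50, 40, 69, 49, 71]), ([49], [52, 42, 69, 49, 71]), ([49], [54, 44, 49]), ([49], [55, 45, 49]), ([49], [56, 46, 49]), ([49], [57, 47, 49]), ([52, 75, 53, 7, 71], [7]), ([54, 52, 14, 81, 59, 83], [14, 52, 76, 54, 81, 59, 83]), ([60, 60, 0], [0, 61]), ([60, 61, 1], [1]), ([64, 60, 12, 70], [12, 60, 64, 66, 70]), ([64, 61, 13], [13, 61,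 64, 67]), ([64, 63, 15], [15, 63, 64, 68]), ([65, 63, 21], [21, 63, 65, 69]), ([66, 61, 25, 82, 71], [25, 61, 66, 71]), ([70, 83], [71]), ([71], [72, 60, 71]), ([76, 73, 13], [13, 73, 76, 79]), ([76, 74, 14, 83], [14, 74, 76, 81, 83]), ([76, 75, 15], [15, 75, 76, 80]), ([77, 73, 19], [19, 73, 77, 78]), ([], [29, 24, 18, 78, 38, 31, 82, 71]), ([], [36, 32, 12, 67, 31, 71]), ([], [44, 42, 14, 80, 58, 49, 82, 71]), ([], [55, 52, 20, 69, 49, 71]), ([], [67, 60, 32, 82, 71]), ([], [78, 72, 24, 71]), ([72, 24, 8, 2, 1, 71, 27, 11, 66, 30, 69, 85, 84], [51, 25, 9, 1, 81, 82, 71, 53, 27, 11, 69, 70, 78, 56, 30, 83, 84, 85, 4]), ([65, 23, 70, 72, 12, 71, 27, 15, 46, 66, 46, 30, 69, 49, 65, 37, 17, 70, 72, 32, 8, 0, 83, 63, 35, 11, 82, 71, 38, 31, 50, 4, 2, 1, 75, 53, 7, 71, 56, 59, 86, 86, 84, 86, 84, 84, 12, 0, 60, 24, 12, 2, 1, 66, 30, 70, 82, 71, 36, 16, 36, 22, 17], [55, 29, 60, 50, 24, 18, 8, 0, 78, 38, 31, 82, 71, 82, 71, 53, 21, 11, 59, 66,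 46, 69, 49, 60, 24, 18, 4, 2, 1, 78, 38, 31, 82, 71, 63, 21, 7, 66, 56, 69, 59, 65, 45, 29, 23, 70, 77, 45, 29, 17, 82, 71, 84, 86, 84, 84, 86, 86, 16, 18, 76, 36, 22, 17, 72, 32, 0, 83, 60, 32, 2, 1, 82, 71]), ([73, 25, 9, 3, 83, 63, 27, 11, 70, 78, 30, 83, 65, 37, 70, 77, 37, 23, 82, 71, 32, 12, 4, 0, 67, 31, 71, 15, 7, 46, 49, 29, 17, 65, 29, 70, 72, 24, 18, 2, 1, 78, 38, 31, 82, 71, 75, 21, 78, 56, 81, 59, 85, 85, 86, 86, 84, 86, 86, 84, 0, 14, 76, 54, 16, 74, 52, 20, 6, 69, 49, 71, 76, 22, 17, 76], [50, 24, 8, 0, 69, 71, 53, 27, 11, 69, 70, 78, 56, 30, 81, 59, 77, 45, 37, 82, 71, 41, 33, 19, 5, 3, 31, 68, 71, 43, 21, 7, 58, 49, 78, 83, 65, 29, 23, 70, 73, 25, 13, 1, 38, 31, 83, 63, 15, 66, 46, 71, 45, 29, 17, 65, 45, 29, 70, 84, 84, 86, 85, 86, 85, 86, 86, 6, 16, 18, 8, 76, 36, 22, 17, 76, 36, 72, 32, 12, 8, 0, 67, 31, 71]), ([73, 51, 5, 71, 57, 90, 89], [74, 34, 71, 89, 90, 46])]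

def threeLen : ℕ := 161

def threeLetters : List ℕ := [204, 485, 209, 487, 211, 488, 490, 492, 165, 494, 348, 349]

def threeConjugators : List ℕ := [498, 502]

def three : TailData where
  n := 12
  derived := [6, 7, 8, 9, 10, 11]
  defs := [(6, 0, 5), (7, 0, 4), (8, 2, 4), (9, 2, 5), (10, 0, 7), (11, 0, 6)]
  rules := [(0, 0, [1]), (0, 1, []), (1, 0, [0, 1]), (1, 1, [0]), (2, 0, [0, 2]), (2, 1, [1, 2]), (2, 2, [3]), (2, 3, []), (3, 0, [0, 3]), (3, 1, [1, 3]), (3, 2, [2, 3]), (3, 3, [2]), (4, 0, [0, 4, 6, 10]), (4, 1, [1, 4, 7]), (4, 2, [2, 4, 9, 11]), (4, 3, [3, 4, 8]), (4, 4, [5]), (4, 5, []), (5, 0, [0, 5, 7, 11]), (5, 1, [1, 5, 6]), (5, 2, [2, 5, 8, 10]), (5, 3, [3, 5, 9]), (5, 4, [4, 5]), (5, 5, [4]), (6, 0, [0, 6, 10]), (6, 1, [1, 6, 11]), (6, 2, [2, 6, 11]), (6, 3, [3, 6, 10]), (6, 4, [4, 6]), (6, 5, [5, 6]), (6, 6, [7]), (6, 7, []), (7, 0, [0, 7, 11]), (7, 1, [1, 7, 10]), (7, 2, [2, 7, 10]), (7, 3, [3, 7, 11]), (7, 4, [4, 7]), (7,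 5, [5, 7]), (7, 6, [6, 7]), (7, 7, [6]), (8, 0, [0, 8, 10]), (8, 1, [1, 8, 11]), (8, 2, [2, 8, 10]), (8, 3, [3, 8, 11]), (8, 4, [4, 8]), (8, 5, [5, 8]), (8, 6, [6, 8]), (8, 7, [7, 8]), (8, 8, [9]), (8, 9, []), (9, 0, [0, 9, 11]), (9, 1, [1, 9, 10]), (9, 2, [2, 9, 11]), (9, 3, [3, 9, 10]), (9, 4, [4, 9]), (9, 5, [5, 9]), (9, 6, [6, 9]), (9, 7, [7, 9]), (9, 8, [8, 9]), (9, 9, [8]), (10, 0, [0, 10]), (10, 1, [1, 10]), (10, 2, [2, 10]), (10, 3, [3, 10]), (10, 4, [4, 10]), (10, 5, [5, 10]), (10, 6, [6, 10]), (10, 7, [7, 10]), (10, 8, [8, 10]), (10, 9, [9, 10]), (10, 10, [11]), (10, 11, []), (11, 0, [0, 11]), (11, 1, [1, 11]), (11, 2, [2, 11]), (11, 3, [3, 11]), (11, 4, [4, 11]), (11, 5, [5, 11]), (11, 6, [6, 11]), (11, 7, [7, 11]), (11, 8, [8, 11]), (11, 9, [9, 11]), (11, 10, [10, 11]), (11, 11, [10])]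
  conjs := [(0, [0], [0, 3, 6, 9]), (0, [2], [1, 3, 6, 11]), (0, [4], [5, 10]), (1, [0], [0, 7, 10]), (1, [2], [2, 8, 11]), (1, [6], [1, 7, 11]), (1, [8], [2, 9, 11])]
  srcs := [.word [[0, 0], [0]] [[0], [0, 0]], .word [[2, 0], [1]] [[2], [0, 1]], .word [[2, 2], [2]] [[2], [2, 2]], .word [[2, 3], [0]] [[2], [3, 0]], .word [[2, 3], [1]] [[2], [3, 1]], .word [[4, 1], [1]] [[4], [1, 1]], .word [[4, 3], [1]] [[4], [3, 1]], .word [[4, 3], [3]] [[4], [3, 3]], .word [[4, 4], [1]] [[4], [4, 1]], .word [[4, 4], [3]] [[4], [4, 3]], .word [[4, 4], [4]] [[4], [4, 4]], .word [[4, 5], [3]] [[4], [5, 3]], .word [[5, 1], [1]] [[5], [1, 1]], .word [[5, 3], [1]] [[5], [3, 1]], .word [[5, 3], [3]] [[5], [3, 3]], .word [[5, 4], [1]] [[5], [4, 1]], .word [[6, 0], [0]] [[6], [0, 0]], .word [[6, 1], [0]] [[6], [1, 0]], .word [[6, 2], [1]] [[6], [2, 1]], .word [[6, 2], [3]] [[6], [2, 3]], .word [[6, 3], [0]] [[6], [3, 0]], .word [[6, 4], [0]] [[6], [4, 0]], .word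 [[6, 4], [3]] [[6], [4, 3]], .word [[6, 4], [4]] [[6], [4, 4]], .word [[6, 4], [5]] [[6], [4, 5]], .word [[6, 6], [6]] [[6], [6, 6]], .word [[6, 6], [7]] [[6], [6, 7]], .word [[6, 7], [0]] [[6], [7, 0]], .word [[6, 7], [3]] [[6], [7, 3]], .word [[6, 7], [4]] [[6], [7, 4]], .word [[6, 7], [5]] [[6], [7, 5]], .word [[7, 0], [1]] [[7], [0, 1]], .word [[7, 2], [1]] [[7], [2, 1]], .word [[7, 3], [0]] [[7], [3, 0]], .word [[7, 3], [2]] [[7], [3, 2]], .word [[7, 5], [0]] [[7], [5, 0]], .word [[8, 1], [0]] [[8], [1, 0]], .word [[8, 2], [0]] [[8], [2, 0]], .word [[8, 2], [2]] [[8], [2, 2]], .word [[8, 3], [1]] [[8], [3, 1]], .word [[8, 3], [2]] [[8], [3, 2]], .word [[8, 4], [4]] [[8], [4, 4]], .word [[8, 4], [5]] [[8], [4, 5]], .word [[8, 5], [2]] [[8], [5, 2]], .word [[8, 6], [7]] [[8], [6, 7]], .word [[8, 8], [8]] [[8], [8, 8]], .word [[8, 8], [9]] [[8], [8, 9]], .word [[8, 9], [0]] [[8], [9, 0]], .word [[8, 9], [2]] [[8], [9, 2]], .word [[8, 9],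 [4]] [[8], [9, 4]], .word [[8, 9], [5]] [[8], [9, 5]], .word [[8, 9], [6]] [[8], [9, 6]], .word [[8, 9], [7]] [[8], [9, 7]], .word [[9, 2], [3]] [[9], [2, 3]], .word [[9, 4], [2]] [[9], [4, 2]], .word [[10, 0], [0]] [[10], [0, 0]], .word [[10, 0], [1]] [[10], [0, 1]], .word [[10, 4], [0]] [[10], [4, 0]], .word [[10, 4], [1]] [[10], [4, 1]], .word [[10, 4], [3]] [[10], [4, 3]], .word [[10, 5], [3]] [[10], [5, 3]], .word [[10, 6], [1]] [[10], [6, 1]], .word [[10, 10], [11]] [[10], [10, 11]], .word [[10, 11], [0]] [[10], [11, 0]], .word [[11, 4], [1]] [[11], [4, 1]], .word [[11, 4], [2]] [[11], [4, 2]], .word [[11, 4], [3]] [[11], [4, 3]], .word [[11, 5], [1]] [[11], [5, 1]], .word [[0, 5]] [[6, 5, 0]], .word [[0, 4]] [[7, 4, 0]], .word [[2, 4]] [[8, 4, 2]], .word [[2, 5]] [[9, 5, 2]], .word [[0, 7]] [[10, 7, 0]], .word [[0, 6]] [[11, 6, 0]], .conj 0 [1, 0] [0, 1], .conj 0 [2, 2, 0, 2, 0, 0] [0, 2, 0, 0, 2, 2], .conj 0 [1, 1, 2, 2, 0, 2, 2, 0]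 [0, 0, 2, 1, 2, 1, 2, 2], .conj 1 [6, 5] [5, 6]]
  k := 14
  targets := [(2, 0, threeT_2), (4, 0, threeT_4), (5, 0, threeT_5), (8, 0, threeT_8), (9, 0, threeT_9), (10, 0, threeT_10), (12, 0, threeT_12), (13, -3, threeT_13), (14, 1, threeT_14), (15, 0, threeT_15), (18, 0, threeT_18), (19, -3, threeT_19), (20, -1, threeT_20), (21, 0, threeT_21), (22, 0, threeT_22), (24, 0, threeT_24), (25, 0, threeT_25), (26, -1, threeT_26), (27, 1, threeT_27), (28, 3, threeT_28), (29, -3, threeT_29), (30, -3, threeT_30), (31, 3, threeT_31), (32, 0, threeT_32), (33, 0, threeT_33), (34, 1, threeT_34), (35, -1, threeT_35), (36, -3, threeT_36), (37, 3, threeT_37), (38, 0, threeT_38), (39, 6, threeT_39), (40, 1, threeT_40), (41, -1, threeT_41), (42, -1, threeT_42), (43, 1, threeT_43), (44, 0, threeT_44), (45, 0, threeT_45), (46, 0, threeT_46), (47, 0, threeT_47), (48, 0, threeT_48), (49, 0, threeT_49), (50, -1, threeT_50), (51, 1, threeT_51), (52, 1, threeT_52),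 (53, -1, threeT_53), (54, 0, threeT_54), (55, 0, threeT_55), (56, 0, threeT_56), (57, 0, threeT_57), (58, 0, threeT_58), (59, 0, threeT_59), (60, 0, threeT_60), (61, 0, threeT_61), (62, 0, threeT_62), (63, 0, threeT_63), (64, 0, threeT_64), (65, 0, threeT_65), (66, 0, threeT_66), (67, 0, threeT_67), (68, 0, threeT_68), (69, 0, threeT_69), (70, 0, threeT_70), (71, 0, threeT_71), (72, 0, threeT_72), (73, 0, threeT_73), (74, 0, threeT_74), (75, 0, threeT_75), (76, 0, threeT_76), (77, 0, threeT_77), (78, 0, threeT_78), (79, 0, threeT_79), (80, 0, threeT_80), (81, 0, threeT_81), (82, 0, threeT_82), (83, 0, threeT_83)]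
  four := [(7, -3), (11, -6), (14, -3), (16, 1), (17, 1), (18, 2), (32, -6), (33, 5), (37, 5), (38, -1), (39, -2), (40, 2), (41, 3), (42, -6), (46, 3), (50, -3), (53, 3), (55, -3), (56, 3), (60, -3), (63, 3), (67, -3), (71, 3), (73, 3)]
  forms := (List.range 729).map threeForms.get
  dforms := [[], [6], [7], [8], [6, 8], [7, 8], [9], [6, 9], [7, 9], [10], [6, 10], [7, 10], [8, 10], [6, 8, 10], [7, 8, 10], [9, 10], [6, 9, 10], [7, 9, 10], [11], [6, 11], [7, 11], [8, 11], [6, 8, 11], [7, 8, 11], [9, 11], [6, 9, 11], [7, 9, 11]]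

end CfsgLib.SchurMcL
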