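import Cfsg.Agent.Lib.Schur.TailPacked

/-! Certificate data for the multiplier of McL (generated). -/

set_option autoImplicit false
set_option maxRecDepth 100000
set_option maxHeartbeats 4000000

namespace CfsgLib.SchurMcL

open CfsgLib.SchurTail

def twoForms_0 : Table (List ℕ) := (.node 64 (.node 32 (.node 16 (.node 8 (.node 4 (.node 2 (.node 1 (.leaf []) (.leaf [0])) (.node 3 (.leaf [1]) (.leaf [0, 1]))) (.node 6 (.node 5 (.leaf [2]) (.leaf [0, 2])) (.node 7 (.leaf [1, 2]) (.leaf [0, 1, 2])))) (.node 12 (.node 10 (.node 9 (.leaf [3]) (.leaf [0, 3])) (.node 11 (.leaf [1, 3]) (.leaf [0, 1, 3]))) (.node 14 (.node 13 (.leaf [2, 3]) (.leaf [0, 2, 3])) (.node 15 (.leaf [1, 2, 3]) (.leaf [0, 1, 2, 3]))))) (.node 24 (.node 20 (.node 18 (.node 17 (.leaf [4]) (.leaf [0, 4])) (.node 19 (.leaf [1, 4]) (.leaf [0, 1, 4]))) (.node 22 (.node 21 (.leaf [2, 4]) (.leaf [0, 2, 4])) (.node 23 (.leaf [1, 2, 4])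 (.leaf [0, 1, 2, 4])))) (.node 28 (.node 26 (.node 25 (.leaf [3, 4]) (.leaf [0, 3, 4])) (.node 27 (.leaf [1, 3, 4]) (.leaf [0, 1, 3, 4]))) (.node 30 (.node 29 (.leaf [2, 3, 4]) (.leaf [0, 2, 3, 4])) (.node 31 (.leaf [1, 2, 3, 4]) (.leaf [0, 1, 2, 3, 4])))))) (.node 48 (.node 40 (.node 36 (.node 34 (.node 33 (.leaf [5]) (.leaf [0, 5])) (.node 35 (.leaf [1, 5]) (.leaf [0, 1, 5]))) (.node 38 (.node 37 (.leaf [2, 5]) (.leaf [0, 2, 5])) (.node 39 (.leaf [1, 2, 5]) (.leaf [0, 1, 2, 5])))) (.node 44 (.node 42 (.node 41 (.leaf [3, 5]) (.leaf [0, 3, 5])) (.node 43 (.leaf [1, 3, 5]) (.leaf [0, 1, 3, 5]))) (.node 46 (.node 45 (.leaf [2, 3, 5]) (.leaf [0, 2, 3, 5])) (.node 47 (.leaf [1, 2, 3, 5]) (.leaf [0, 1, 2, 3, 5]))))) (.node 56 (.node 52 (.node 50 (.node 49 (.leaf [4, 5]) (.leaf [0, 4, 5])) (.node 51 (.leaf [1, 4, 5]) (.leaf [0, 1, 4, 5]))) (.node 54 (.node 53 (.leaf [2, 4, 5]) (.leaf [0, 2, 4, 5]))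 (.node 55 (.leaf [1, 2, 4, 5]) (.leaf [0, 1, 2, 4, 5])))) (.node 60 (.node 58 (.node 57 (.leaf [3, 4, 5]) (.leaf [0, 3, 4, 5])) (.node 59 (.leaf [1, 3, 4, 5]) (.leaf [0, 1, 3, 4, 5]))) (.node 62 (.node 61 (.leaf [2, 3, 4, 5]) (.leaf [0, 2, 3, 4, 5])) (.node 63 (.leaf [1, 2, 3, 4, 5]) (.leaf [0, 1, 2, 3, 4, 5]))))))) (.node 96 (.node 80 (.node 72 (.node 68 (.node 66 (.node 65 (.leaf [6]) (.leaf [0, 6])) (.node 67 (.leaf [1, 6]) (.leaf [0, 1, 6]))) (.node 70 (.node 69 (.leaf [2, 6]) (.leaf [0, 2, 6])) (.node 71 (.leaf [1, 2, 6]) (.leaf [0, 1, 2, 6])))) (.node 76 (.node 74 (.node 73 (.leaf [3, 6]) (.leaf [0, 3, 6])) (.node 75 (.leaf [1, 3, 6]) (.leaf [0, 1, 3, 6]))) (.node 78 (.node 77 (.leaf [2, 3, 6]) (.leaf [0, 2, 3, 6])) (.node 79 (.leaf [1, 2, 3, 6]) (.leaf [0, 1, 2, 3, 6]))))) (.node 88 (.node 84 (.node 82 (.node 81 (.leaf [4, 6]) (.leaf [0, 4, 6])) (.node 83 (.leaf [1, 4, 6]) (.leaf [0, 1,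 4, 6]))) (.node 86 (.node 85 (.leaf [2, 4, 6]) (.leaf [0, 2, 4, 6])) (.node 87 (.leaf [1, 2, 4, 6]) (.leaf [0, 1, 2, 4, 6])))) (.node 92 (.node 90 (.node 89 (.leaf [3, 4, 6]) (.leaf [0, 3, 4, 6])) (.node 91 (.leaf [1, 3, 4, 6]) (.leaf [0, 1, 3, 4, 6]))) (.node 94 (.node 93 (.leaf [2, 3, 4, 6]) (.leaf [0, 2, 3, 4, 6])) (.node 95 (.leaf [1, 2, 3, 4, 6]) (.leaf [0, 1, 2, 3, 4, 6])))))) (.node 112 (.node 104 (.node 100 (.node 98 (.node 97 (.leaf [5, 6]) (.leaf [0, 5, 6])) (.node 99 (.leaf [1, 5, 6]) (.leaf [0, 1, 5, 6]))) (.node 102 (.node 101 (.leaf [2, 5, 6]) (.leaf [0, 2, 5, 6])) (.node 103 (.leaf [1, 2, 5, 6]) (.leaf [0, 1, 2, 5, 6])))) (.node 108 (.node 106 (.node 105 (.leaf [3, 5, 6]) (.leaf [0, 3, 5, 6])) (.node 107 (.leaf [1, 3, 5, 6]) (.leaf [0, 1, 3, 5, 6]))) (.node 110 (.node 109 (.leaf [2, 3, 5, 6]) (.leaf [0, 2, 3, 5, 6])) (.node 111 (.leaf [1, 2, 3, 5, 6]) (.leaf [0, 1, 2, 3, 5, 6])))))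 (.node 120 (.node 116 (.node 114 (.node 113 (.leaf [4, 5, 6]) (.leaf [0, 4, 5, 6])) (.node 115 (.leaf [1, 4, 5, 6]) (.leaf [0, 1, 4, 5, 6]))) (.node 118 (.node 117 (.leaf [2, 4, 5, 6]) (.leaf [0, 2, 4, 5, 6])) (.node 119 (.leaf [1, 2, 4, 5, 6]) (.leaf [0, 1, 2, 4, 5, 6])))) (.node 124 (.node 122 (.node 121 (.leaf [3, 4, 5, 6]) (.leaf [0, 3, 4, 5, 6])) (.node 123 (.leaf [1, 3, 4, 5, 6]) (.leaf [0, 1, 3, 4, 5, 6]))) (.node 126 (.node 125 (.leaf [2, 3, 4, 5, 6]) (.leaf [0, 2, 3, 4, 5, 6])) (.node 127 (.leaf [1, 2, 3, 4, 5, 6]) (.leaf [0, 1, 2, 3, 4, 5, 6]))))))))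

def twoForms : Table (List ℕ) := twoForms_0

def twoPos_0 : Table (ℕ) := (.node 64 (.node 32 (.node 16 (.node 8 (.node 4 (.node 2 (.node 1 (.leaf 0) (.leaf 1)) (.node 3 (.leaf 2) (.leaf 3))) (.node 6 (.node 5 (.leaf 4) (.leaf 5)) (.node 7 (.leaf 6) (.leaf 7)))) (.node 12 (.node 10 (.node 9 (.leaf 8) (.leaf 9)) (.node 11 (.leaf 10) (.leaf 11))) (.node 14 (.node 13 (.leaf 12) (.leaf 13)) (.node 15 (.leaf 14) (.leaf 15))))) (.node 24 (.node 20 (.node 18 (.node 17 (.leaf 16) (.leaf 17)) (.node 19 (.leaf 18) (.leaf 19))) (.node 22 (.node 21 (.leaf 20) (.leaf 21)) (.node 23 (.leaf 22) (.leaf 23)))) (.node 28 (.node 26 (.node 25 (.leaf 24) (.leaf 25)) (.node 27 (.leaf 26) (.leaf 27))) (.node 30 (.node 29 (.leaf 28) (.leaf 29)) (.node 31 (.leaf 30) (.leaf 31)))))) (.node 48 (.node 40 (.node 36 (.node 34 (.node 33 (.leaf 32) (.leaf 33)) (.node 35 (.leaf 34) (.leaf 35))) (.node 38 (.node 37 (.leaf 36)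 (.leaf 37)) (.node 39 (.leaf 38) (.leaf 39)))) (.node 44 (.node 42 (.node 41 (.leaf 40) (.leaf 41)) (.node 43 (.leaf 42) (.leaf 43))) (.node 46 (.node 45 (.leaf 44) (.leaf 45)) (.node 47 (.leaf 46) (.leaf 47))))) (.node 56 (.node 52 (.node 50 (.node 49 (.leaf 48) (.leaf 49)) (.node 51 (.leaf 50) (.leaf 51))) (.node 54 (.node 53 (.leaf 52) (.leaf 53)) (.node 55 (.leaf 54) (.leaf 55)))) (.node 60 (.node 58 (.node 57 (.leaf 56) (.leaf 57)) (.node 59 (.leaf 58) (.leaf 59))) (.node 62 (.node 61 (.leaf 60) (.leaf 61)) (.node 63 (.leaf 62) (.leaf 63))))))) (.node 96 (.node 80 (.node 72 (.node 68 (.node 66 (.node 65 (.leaf 64) (.leaf 65)) (.node 67 (.leaf 66) (.leaf 67))) (.node 70 (.node 69 (.leaf 68) (.leaf 69)) (.node 71 (.leaf 70) (.leaf 71)))) (.node 76 (.node 74 (.node 73 (.leaf 72) (.leaf 73)) (.node 75 (.leaf 74) (.leaf 75))) (.node 78 (.node 77 (.leaf 76) (.leaf 77)) (.node 79 (.leaf 78) (.leaf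 79))))) (.node 88 (.node 84 (.node 82 (.node 81 (.leaf 80) (.leaf 81)) (.node 83 (.leaf 82) (.leaf 83))) (.node 86 (.node 85 (.leaf 84) (.leaf 85)) (.node 87 (.leaf 86) (.leaf 87)))) (.node 92 (.node 90 (.node 89 (.leaf 88) (.leaf 89)) (.node 91 (.leaf 90) (.leaf 91))) (.node 94 (.node 93 (.leaf 92) (.leaf 93)) (.node 95 (.leaf 94) (.leaf 95)))))) (.node 112 (.node 104 (.node 100 (.node 98 (.node 97 (.leaf 96) (.leaf 97)) (.node 99 (.leaf 98) (.leaf 99))) (.node 102 (.node 101 (.leaf 100) (.leaf 101)) (.node 103 (.leaf 102) (.leaf 103)))) (.node 108 (.node 106 (.node 105 (.leaf 104) (.leaf 105)) (.node 107 (.leaf 106) (.leaf 107))) (.node 110 (.node 109 (.leaf 108) (.leaf 109)) (.node 111 (.leaf 110) (.leaf 111))))) (.node 120 (.node 116 (.node 114 (.node 113 (.leaf 112) (.leaf 113)) (.node 115 (.leaf 114) (.leaf 115))) (.node 118 (.node 117 (.leaf 116) (.leaf 117)) (.node 119 (.leaf 118) (.leaf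 119)))) (.node 124 (.node 122 (.node 121 (.leaf 120) (.leaf 121)) (.node 123 (.leaf 122) (.leaf 123))) (.node 126 (.node 125 (.leaf 124) (.leaf 125)) (.node 127 (.leaf 126) (.leaf 127))))))))

def twoPos : Table (ℕ) := twoPos_0

def twoFind_0 : Table ℕ := (.node 809249734437384 (.node 105690689507915 (.node 70386342996678 (.node 6076467043403 (.node 4265977162351 (.node 1589690782741 (.leaf 10) (.leaf 120)) (.node 6009358196245 (.leaf 8) (.leaf 124))) (.node 12198136903279 (.node 8196301081636 (.leaf 14) (.leaf 126)) (.node 13011485287460 (.leaf 12) (.leaf 122)))) (.node 74571416120421 (.node 71560469437167 (.node 70575053178002 (.leaf 121) (.leaf 123)) (.node 73685958250735 (.leaf 13) (.leaf 9))) (.node 77681200559250 (.node 77463113460325 (.leaf 15) (.leaf 11)) (.node 88264979805382 (.leaf 127) (.leaf 125))))) (.node 598295280435399 (.node 111611172099271 (.node 109825937714287 (.node 107150722537583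 (.leaf 0) (.leaf 38)) (.node 111556340817534 (.leaf 2) (.leaf 86))) (.node 117717944558206 (.node 113746987011271 (.leaf 112) (.leaf 84)) (.node 118569351325259 (.leaf 114) (.leaf 36)))) (.node 604200296636615 (.node 602404086989950 (.node 599720270043288 (.leaf 62) (.leaf 76)) (.node 604147698380952 (.leaf 60) (.leaf 72))) (.node 610328409645182 (.node 606341084527133 (.leaf 58) (.leaf 74)) (.node 611139916211741 (.leaf 56) (.leaf 78)))))) (.node 2146394942029860 (.node 1689005982552605 (.node 813457057562770 (.node 810414158520559 (.node 809463793404618 (.leaf 99) (.leaf 117)) (.node 812569860023304 (.leaf 55) (.leaf 71))) (.node 816526299535506 (.node 816330901056202 (.leaf 33) (.leaf 81)) (.node 827142407570159 (.leaf 5) (.leaf 19)))) (.node 1694920678434845 (.node 1693145246278165 (.node 1690461145012847 (.leaf 90) (.leaf 28)) (.node 1694837608566383 (.leaf 108) (.leaf 24))) (.node 1701018604200469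 (.node 1697045061307591 (.leaf 94) (.leaf 46)) (.node 1701866994515655 (.leaf 104) (.leaf 42))))) (.node 2181436438823622 (.node 2152294158228509 (.node 2150508794070037 (.node 2147851807305237 (.leaf 20) (.leaf 50)) (.node 2152242342022808 (.leaf 22) (.leaf 66))) (.node 2158422326900376 (.node 2154452505335837 (.leaf 100) (.leaf 64)) (.node 2159250918981156 (.leaf 102) (.leaf 48)))) (.node 2185624457096394 (.node 2182608476986005 (.node 2181649442286738 (.leaf 51) (.leaf 49)) (.node 2184764389959366 (.leaf 103) (.leaf 23))) (.node 2188739927149770 (.node 2188526270941842 (.leaf 101) (.leaf 21)) (.node 2199328900596885 (.leaf 65) (.leaf 67)))))))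

def twoFind_64 : Table ℕ := (.node 4186958981241493 (.node 3624144017098781 (.node 3096253891912431 (.node 3065249336669200 (.node 3062243396453896 (.node 3061271141642853 (.leaf 39) (.leaf 37)) (.node 3064348034070767 (.leaf 115) (.leaf 3))) (.node 3068336873239568 (.node 3068119954760805 (.leaf 113) (.leaf 1)) (.node 3078912853963784 (.leaf 85) (.leaf 87)))) (.node 3100416782415050 (.node 3097411677619910 (.node 3096441686076432 (.leaf 29) (.leaf 43)) (.node 3099546783098054 (.leaf 105) (.leaf 109))) (.node 3103525271541776 (.node 3103331041682634 (.leaf 95) (.leaf 91)) (.node 3114109396403439 (.leaf 47) (.leaf 25))))) (.node 3729709070680775 (.node 3630065893105700 (.node 3628267982889598 (.node 3625583155106942 (.leaf 80) (.leaf 98)) (.node 3629970408616047 (.leaf 70) (.leaf 18))) (.node 3636178234403951 (.node 3632168077102116 (.leaf 32) (.leaf 4)) (.node 3636989048254493 (.leaf 54) (.leaf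 116)))) (.node 3735606995839051 (.node 3733828679084696 (.node 3731125470370456 (.leaf 68) (.leaf 118)) (.node 3735534249729557 (.leaf 82) (.leaf 6))) (.node 3741723847139349 (.node 3737731864771147 (.leaf 52) (.leaf 16)) (.node 3742531569411271 (.leaf 34) (.leaf 96)))))) (.node 6649869819003400 (.node 6227668653351573 (.node 4191160375230480 (.node 4188137657777160 (.node 4187162683470538 (.leaf 77) (.leaf 79)) (.node 4190256402114056 (.leaf 57) (.leaf 61))) (.node 4194235296889546 (.node 4194018565425680 (.leaf 59) (.leaf 63)) (.node 4204830846993045 (.leaf 75) (.leaf 73)))) (.node 6231837962187877 (.node 6228832849804486 (.node 6227841517716496 (.leaf 119) (.leaf 97)) (.node 6230937812979861 (.leaf 35) (.leaf 83))) (.node 6234935219567205 (.node 6234736558980112 (.leaf 53) (.leaf 69)) (.node 6245510051096262 (.leaf 17) (.leaf 7))))) (.node 9148103323419172 (.node 6654054459258002 (.node 6651032154808469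 (.node 6650080691833445 (.leaf 41) (.leaf 31)) (.node 6653174031448213 (.leaf 93) (.leaf 89))) (.node 6657130770009189 (.node 6656935184678034 (.leaf 107) (.leaf 111)) (.node 6667732067902984 (.leaf 27) (.leaf 45)))) (.node 9154001666577444 (.node 9152228114377880 (.node 9149552080531070 (.leaf 110) (.leaf 40)) (.node 9153920707092094 (.leaf 88) (.leaf 44))) (.node 9160109233302680 (.node 9156137876723787 (.leaf 106) (.leaf 26)) (.node 9160943381377099 (.leaf 92) (.leaf 30)))))))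

def twoFind : Table ℕ := (.node 3061071130663663 twoFind_0 twoFind_64)

def twoWt : List ℕ := [1, 2, 4, 8, 16, 32, 64]

def twoT_1 : List (ℕ × ℤ) := [(1, -1), (6, 2), (9, -1), (21, 1), (24, 1), (26, -1)]

def twoT_3 : List (ℕ × ℤ) := [(0, -1), (4, -1), (6, 1), (9, -1), (12, 1), (14, -1), (17, 1), (20, -1), (22, 1), (23, 1), (24, 1), (26, -1)]

def twoT_4 : List (ℕ × ℤ) := [(0, 1), (6, -4), (7, 1), (8, 3), (10, 3), (12, 2), (14, -1), (15, -1), (16, -2), (17, 1), (20, 1), (22, 1), (23, 1), (25, 1), (27, -1), (28, 2), (29, -1)]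

def twoT_6 : List (ℕ × ℤ) := [(6, 1), (9, -1), (24, 1), (26, -1)]

def twoT_7 : List (ℕ × ℤ) := [(6, -2), (7, 1), (8, 2), (10, 2), (12, 1), (13, -1), (15, -1), (16, -2), (18, -2), (19, 1), (27, -1), (28, 2)]

def twoT_8 : List (ℕ × ℤ) := [(0, -1), (2, -1), (6, -6), (7, 1), (8, 4), (9, -1), (10, 3), (11, 1), (12, 3), (13, -1), (15, -1), (16, -3), (17, -2), (18, 1), (19, 1), (20, -1), (23, 1), (25, 1), (26, 1), (27, -1), (28, 5)]

def twoT_9 : List (ℕ × ℤ) := [(1, 1), (6, 1), (7, -1), (8, -2), (9, 1), (10, -2), (12, -1), (13, 1), (15, 1), (16, 2), (18, 2), (19, -1), (21, -2), (27, 1), (28, -2)]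

def twoT_10 : List (ℕ × ℤ) := [(0, -1), (2, -2), (6, -9), (7, 2), (8, 7), (9, -2), (10, 6), (11, 2), (12, 5), (13, -1), (15, -2), (16, -5), (17, -4), (18, 2), (19, 1), (20, -1), (23, 1), (24, 1), (25, 2), (26, 1), (27, -2), (28, 8)]

def twoT_11 : List (ℕ × ℤ) := [(6, 2), (8, -2), (10, -2), (12, -1), (17, 1), (18, -2), (24, 1), (25, -1), (26, -1), (27, 1), (28, -1)]

def twoT_12 : List (ℕ × ℤ) := [(0, -1), (2, -2), (3, -1), (5, -1), (6, -6), (7, 1), (8, 4), (9, -1), (10, 3), (11, 1), (12, 4), (15, -1), (16, -3), (17, -3), (18, 3), (20, -1), (25, 1), (26, 1), (27, -1), (28, 6)]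

def twoT_13 : List (ℕ × ℤ) := [(0, -1), (2, -2), (6, -8), (7, 2), (8, 7), (9, -2), (10, 6), (11, 1), (12, 5), (13, -1), (15, -2), (16, -5), (17, -4), (18, 1), (19, 1), (20, -1), (24, 1), (25, 2), (27, -2), (28, 8)]

def twoT_14 : List (ℕ × ℤ) := [(0, -3), (3, 1), (6, 3), (7, -1), (8, -3), (9, -1), (10, -3), (11, 1), (12, -2), (13, -1), (14, 2), (15, 1), (16, 2), (17, -3), (19, 1), (20, -3), (22, -2), (25, -1), (26, 1), (27, 1), (28, -1), (29, 2)]

def twoT_15 : List (ℕ × ℤ) := [(0, -1), (6, 1), (9, -1), (20, -1), (24, 1), (26, -1)]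

def twoT_16 : List (ℕ × ℤ) := [(0, -1), (2, -2), (6, -5), (7, 1), (8, 6), (9, -2), (10, 5), (11, 1), (12, 4), (15, -1), (16, -3), (17, -4), (18, 4), (20, -1), (24, 1), (25, 2), (27, -2), (28, 6)]

def twoT_17 : List (ℕ × ℤ) := [(6, 1), (12, -1), (16, 1), (28, -1)]

def twoT_18 : List (ℕ × ℤ) := [(6, 1), (8, -1), (10, -1), (12, -1), (16, 1), (28, -1)]

def twoT_19 : List (ℕ × ℤ) := [(6, -1), (13, -1), (16, -1), (18, -1), (19, 1), (28, 1)]

def twoT_20 : List (ℕ × ℤ) := [(0, 2), (2, 2), (6, 11), (7, -2), (8, -7), (9, 2), (10, -6), (11, -2), (12, -5), (13, 2), (15, 2), (16, 5), (17, 4), (18, -2), (19, -2), (20, 2), (23, -2), (25, -2), (26, -2), (27, 2), (28, -9)]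

def twoT_21 : List (ℕ × ℤ) := [(6, 1), (26, -1)]

def twoT_22 : List (ℕ × ℤ) := [(6, -1)]

def twoT_23 : List (ℕ × ℤ) := [(6, -1), (16, -1), (28, 1)]

def twoT_24 : List (ℕ × ℤ) := [(16, -1)]

def twoT_25 : List (ℕ × ℤ) := [(17, -1)]

def twoT_26 : List (ℕ × ℤ) := [(18, 1)]

def twoT_27 : List (ℕ × ℤ) := [(6, -2), (9, 1), (16, 1), (24, -2), (26, 2)]

def twoEqs : List (List ℕ × List ℕ) := [([0, 15, 6, 26, 27], [0]), ([2], [1, 1, 22, 7, 2, 24, 9, 27]), ([4, 15, 10, 3, 1, 23, 8, 25, 19, 26, 20, 27, 14, 26, 20, 27], [1, 3, 22, 16, 11, 4, 19, 14, 26, 20, 27, 24, 27]), ([4, 16, 11, 4, 2, 19, 14, 26, 20, 27], [2]), ([5], [3, 3, 23, 17, 12, 5, 25, 19, 14, 26, 20, 27]), ([5], [4, 4, 17, 12, 5, 19, 14, 20]), ([7, 6, 1, 24, 9, 27], [1, 6, 22, 7, 24, 9, 27]), ([8, 16, 7, 4, 18, 13, 26, 26, 20, 27], [4, 7, 8, 19, 20]), ([8, 17, 8, 5, 20], [5]), ([9], [6, 6, 24, 9, 27]), ([9], [8, 8, 18, 9, 20]), ([10, 21,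 15, 10, 0, 19, 20, 26, 27], [0, 13, 26]), ([12, 10, 3, 25, 19, 14, 26, 20, 27], [3, 10, 23, 17, 12, 25, 19, 14, 26, 20, 27]), ([13, 23, 12, 8, 19], [8, 12, 13, 26]), ([14], [10, 10, 25, 19, 14, 26, 20, 27]), ([16, 22, 16, 2, 27], [2]), ([18, 16, 7], [7, 16, 24, 18]), ([19, 15, 10, 26, 20, 27], [10, 15, 25, 19, 26, 20, 27]), ([19, 18, 13, 26], [13, 18, 19]), ([19, 19, 14], [14]), ([20], [15, 15, 26, 20, 27]), ([], [7, 6, 1, 24, 9, 27]), ([], [12, 10, 3, 25, 19, 14, 26, 20, 27]), ([], [19, 15, 10, 26, 20, 27]), ([], [24, 21, 6, 27]), ([18, 13, 26, 30, 28], [6, 22, 7, 25, 26, 28, 30, 16, 11, 26, 27]), ([30, 29, 25, 26], [21, 22, 25, 26, 29, 30]), ([13, 9, 26, 27, 34, 32, 17, 19], [22, 16, 7, 27, 18, 9, 19, 32, 34]), ([34, 33, 23, 25], [22, 24, 25, 33, 34]), ([14, 23, 24, 23, 8, 5, 26, 20, 37, 36, 39, 38, 13, 21, 10, 6, 3, 24, 18, 13, 26, 27, 25, 19, 14, 26, 20, 27, 22, 7, 4, 18, 13, 26, 27], [23,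 12, 26, 21, 15, 10, 3, 25, 19, 14, 26, 20, 27, 27, 16, 4, 20, 25, 14, 23, 5, 24, 36, 38, 37, 39, 8, 15, 6, 3, 24, 18, 13, 26, 27, 26, 20, 27, 11, 7, 4, 18, 13, 26, 25, 19, 14, 27, 19])]

def twoLen : ℕ := 84

def twoLetters : List ℕ := [415, 424, 430, 436, 444, 449, 458]

def twoConjugators : List ℕ := [465, 474, 482]

def two : TailData where
  n := 7
  derived := [3, 4, 5, 6]
  defs := [(3, 0, 1), (4, 0, 2), (5, 0, 4), (6, 0, 3)]
  rules := [(0, 0, [3, 5]), (1, 0, [0, 1, 3, 6]), (1, 1, []), (2, 0, [0, 2, 4, 5, 6]), (2, 1, [1, 2, 4, 5]), (2, 2, []), (3, 0, [0, 3, 6]), (3, 1, [1, 3]), (3, 2, [2, 3, 5]), (3, 3, []), (4, 0, [0, 4, 5, 6]), (4, 1, [1, 4, 6]), (4, 2, [2, 4]), (4, 3, [3, 4, 6]), (4, 4, []), (5, 0, [0, 5, 6]), (5, 1, [1, 5, 6]), (5, 2, [2, 5]), (5, 3, [3, 5]), (5, 4, [4, 5]), (5, 5, []), (6, 0, [0, 6]), (6, 1, [1, 6]), (6, 2, [2, 6]), (6, 3, [3, 6]), (6, 4, [4, 6]), (6, 5, [5, 6]), (6,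 6, [])]
  conjs := [(0, [1], [3]), (0, [6], [6]), (0, [4, 5], [0, 1, 4, 5]), (1, [3], [0, 1, 3, 4]), (1, [5], [3, 5, 6]), (1, [6], [6]), (1, [2, 4], [1, 3, 4]), (1, [0, 1, 2], [0, 5, 6]), (2, [2], [4, 6]), (2, [3], [0, 1, 4]), (2, [4], [2, 5]), (2, [0, 1], [2, 3])]
  srcs := [.word [[0, 0], [0]] [[0], [0, 0]], .word [[1, 1], [0]] [[1], [1, 0]], .word [[2, 1], [0]] [[2], [1, 0]], .word [[2, 1], [1]] [[2], [1, 1]], .word [[2, 2], [0]] [[2], [2, 0]], .word [[2, 2], [1]] [[2], [2, 1]], .word [[3, 1], [0]] [[3], [1, 0]], .word [[3, 2], [1]] [[3], [2, 1]], .word [[3, 2], [2]] [[3], [2, 2]], .word [[3, 3], [0]] [[3], [3, 0]], .word [[3, 3], [2]] [[3], [3, 2]], .word [[4, 0], [0]] [[4], [0, 0]], .word [[4, 2], [0]] [[4], [2, 0]], .word [[4, 3], [2]] [[4], [3, 2]], .word [[4, 4], [0]] [[4], [4, 0]], .word [[5, 1], [1]] [[5], [1, 1]], .word [[5, 3], [1]] [[5], [3, 1]], .word [[5, 4], [0]] [[5], [4, 0]],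 .word [[5, 4], [3]] [[5], [4, 3]], .word [[5, 4], [4]] [[5], [4, 4]], .word [[5, 5], [0]] [[5], [5, 0]], .word [[0, 1]] [[3, 1, 0]], .word [[0, 2]] [[4, 2, 0]], .word [[0, 4]] [[5, 4, 0]], .word [[0, 3]] [[6, 3, 0]], .conj 0 [2, 0] [0, 2], .conj 0 [2, 1] [1, 2], .conj 1 [6, 4] [4, 6], .conj 1 [6, 5] [5, 6], .conj 2 [9, 8, 11, 10] [8, 10, 9, 11]]
  k := 0
  targets := [(1, 0, twoT_1), (3, 0, twoT_3), (4, 0, twoT_4), (6, 0, twoT_6), (7, 0, twoT_7), (8, 0, twoT_8), (9, 0, twoT_9), (10, 0, twoT_10), (11, 0, twoT_11), (12, 0, twoT_12), (13, 0, twoT_13), (14, 0, twoT_14), (15, 0, twoT_15), (16, 0, twoT_16), (17, 0, twoT_17), (18, 0, twoT_18), (19, 0, twoT_19), (20, 0, twoT_20), (21, 0, twoT_21), (22, 0, twoT_22), (23, 0, twoT_23), (24, 0, twoT_24), (25, 0, twoT_25), (26, 0, twoT_26), (27, 0, twoT_27)]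
  four := []
  forms := (List.range 128).map twoForms.get
  dforms := [[], [3], [4], [3, 4], [5], [3, 5], [4, 5], [3, 4, 5], [6], [3, 6], [4, 6], [3, 4, 6], [5, 6], [3, 5, 6], [4, 5, 6], [3, 4, 5, 6]]

end CfsgLib.SchurMcL
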