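import Cfsg.Agent.Lib.Schur.McL.Coded
import Cfsg.Agent.Lib.Schur.McL.TwoData
import Cfsg.Agent.Lib.Schur.McL.ThreeData
import Cfsg.Agent.Lib.Schur.McL.FiveData
import Cfsg.Agent.Lib.Schur.TailMod
import Cfsg.Agent.Lib.Schur.Bound

/-!
The kernel of a stem extension of McL has order dividing 3.
-/

set_option autoImplicit false

namespace CfsgLib.SchurMcL

open Cfsg CfsgLib.FusionCertN CfsgLib.FusionCertN.LeechRep CfsgLib.SchurTail Subgroup

universe u

/-- A letter. -/
def lt (ls : List ℕ) (i : ℕ) : ℕ := ls.getD i 0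

/-- The relations of a certificate hold between the named elements. -/
def relCheck (D : TailData) (ls gs : List ℕ) : Bool :=
  (D.rules.all fun r => eqB [lt ls r.1, lt ls r.2.1] (r.2.2.map (lt ls))) &&
  ((D.conjs.all fun c => eqB (lt gs c.1 :: c.2.1.map (lt ls)) (c.2.2.map (lt ls) ++ [lt gs c.1])) &&
  ((D.defs.all fun d => eqB [lt ls d.2.1, lt ls d.2.2] [lt ls d.1, lt ls d.2.2, lt ls d.2.1]) &&
  (D.derived.all (fun d => decide (d < D.n)) && (D.forms.contains [] && (D.dforms.contains [] &&
  D.dforms.all fun w => D.forms.contains w)))))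

/-- The forms have different keys. -/
def sepCheck (D : TailData) (ls : List ℕ) (P : Table ℕ) : Bool :=
  (D.forms.all fun w => w.all fun a => Nat.blt (lt ls a) numEls) &&
  (List.range D.forms.length).all fun i =>
    Nat.beq (P.get (keyList (((D.forms.getD i []).map (lt ls)).map el))) i

theorem evW_map (ls : List ℕ) (w : List ℕ) : evW (fun i => X (lt ls i)) w = evW X (w.map (lt ls)) := by
  rw [evW, evW, List.map_map]; rfl

theorem nodup_of_sep {D : TailData} {ls : List ℕ} {P : Table ℕ} (h : sepCheck D ls P = true) :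
    (D.forms.map fun w => evW (fun i => X (lt ls i)) w).Nodup := by
  simp only [sepCheck, Bool.and_eq_true, List.all_eq_true, List.mem_range, Nat.blt_eq] at h
  obtain ⟨hlt, hP⟩ := h
  rw [List.nodup_iff_injective_getElem]
  intro i j e
  have hi : i.1 < D.forms.length := by have := i.2; simpa using this
  have hj : j.1 < D.forms.length := by have := j.2; simpa using this
  have hget : ∀ (k : ℕ) (hk : k < D.forms.length),
      P.get (key (ρ (evW (fun i => X (lt ls i)) D.forms[k]))) = k := by
    intro k hk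
    rw [evW_map, key_evW _ (fun a ha => by
      obtain ⟨b, hb, rfl⟩ := List.mem_map.1 ha
      exact hlt _ (List.getElem_mem hk) b hb)]
    have := Nat.eq_of_beq_eq_true (hP k hk)
    rwa [List.getD_eq_getElem _ _ hk] at this
  simp only [List.getElem_map] at e
  exact Fin.ext (by rw [← hget i hi, ← hget j hj, e])

theorem two_rel : relCheck two twoLetters twoConjugators = true := by decide +kernel

theorem two_sep : sepCheck two twoLetters twoFind = true := by decide +kernel

theorem two_packed : two.packedCheck twoEqs twoLen = true := by decide +kernel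

theorem two_forms : two.checkFormsFast twoForms twoPos twoWt = true := by decide +kernel

theorem two_rest : two.defsOk = true ∧ two.forms.length = 2 ^ 7 := by decide +kernel

theorem three_rel : relCheck three threeLetters threeConjugators = true := by decide +kernel

theorem three_sep : sepCheck three threeLetters threeFind = true := by decide +kernel

theorem three_packed : three.packedCheckMod threeEqs threeLen 3 = true := by decide +kernel

theorem three_forms : three.checkFormsFast threeForms threePos threeWt = true := by decide +kernel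

theorem three_rest : three.defsOk = true ∧ three.forms.length = 3 ^ 6 := by decide +kernel

theorem five_rel : relCheck five fiveLetters fiveConjugators = true := by decide +kernel

theorem five_sep : sepCheck five fiveLetters fiveFind = true := by decide +kernel

theorem five_packed : five.packedCheck fiveEqs fiveLen = true := by decide +kernel

theorem five_forms : five.checkFormsFast fiveForms fivePos fiveWt = true := by decide +kernel

theorem five_rest : five.defsOk = true ∧ five.forms.length = 5 ^ 3 := by decide +kernel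

theorem card_mcl : Nat.card mclGroup = 898128000 := isMcL.2

theorem finite_mcl : Finite mclGroup :=
  Nat.finite_of_card_ne_zero (by rw [card_mcl]; norm_num)

theorem factorization_eq {p k q : ℕ} (hp : p.Prime) (he : 898128000 = p ^ k * q) (hq : ¬ p ∣ q) :
    (Nat.card mclGroup).factorization p = k := by
  have hq0 : q ≠ 0 := fun h => hq (h ▸ dvd_zero p)
  rw [card_mcl, he, Nat.factorization_mul (pow_ne_zero _ hp.ne_zero) hq0, hp.factorization_pow,
    Finsupp.add_apply, Finsupp.single_eq_same, Nat.factorization_eq_zero_of_not_dvd hq, add_zero]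

variable {Γ : Type u} [Group Γ] [Finite Γ] {σ : Γ →* mclGroup}

theorem rel_facts {D : TailData} {ls gs : List ℕ} (h : relCheck D ls gs = true) :
    (∀ r ∈ D.rules, X (lt ls r.1) * X (lt ls r.2.1) = evW (fun i => X (lt ls i)) r.2.2) ∧
    (∀ q ∈ D.conjs, X (lt gs q.1) * evW (fun i => X (lt ls i)) q.2.1 =
      evW (fun i => X (lt ls i)) q.2.2 * X (lt gs q.1)) ∧
    (∀ d ∈ D.defs, X (lt ls d.2.1) * X (lt ls d.2.2) =
      X (lt ls d.1) * X (lt ls d.2.2) * X (lt ls d.2.1)) ∧
    (∀ d ∈ D.derived, d < D.n) ∧ ([] ∈ D.forms ∧ [] ∈ D.dforms) ∧ ∀ w ∈ D.dforms, w ∈ D.forms := by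
  simp only [relCheck, Bool.and_eq_true, List.all_eq_true, List.contains_iff_mem,
    decide_eq_true_eq] at h
  obtain ⟨hr, hc, hd, hder, hnil, hnil', hsub⟩ := h
  refine ⟨fun r hr' => ?_, fun q hq => ?_, fun d hd' => ?_, hder, ⟨hnil, hnil'⟩, hsub⟩
  · have e := eq_of_eqB (hr r hr')
    rw [evW_cons, evW_cons, evW_nil, mul_one] at e
    rw [e, evW_map]
  · have e := eq_of_eqB (hc q hq)
    rw [evW_cons, evW_append, evW_cons, evW_nil, mul_one] at e
    rw [evW_map, evW_map, e]
  · have e := eq_of_eqB (hd d hd')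
    rw [evW_cons, evW_cons, evW_nil, mul_one, evW_cons, evW_cons, evW_cons, evW_nil, mul_one] at e
    rw [e, mul_assoc]

theorem not_dvd {p m : ℕ} [Fact p.Prime] {D : TailData} {ls gs : List ℕ} {P : Table ℕ}
    (hrel : relCheck D ls gs = true) (hsep : sepCheck D ls P = true) (hord : D.defsOk = true)
    {E : List (List ℕ × List ℕ)} {M : ℕ} (hpack : D.packedCheck E M = true)
    (hforms : D.checkForms = true) (hlen : D.forms.length = p ^ m)
    (hG : (Nat.card mclGroup).factorization p = m) (hσ : Cfsg.IsStemExtension σ) :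
    ¬ p ∣ Nat.card σ.ker := by
  obtain ⟨h1, h2, h3, h4, h5, h6⟩ := rel_facts hrel
  exact not_dvd_card_ker hσ.1 hσ.2.1 hσ.2.2 D hord _ (fun i => X (lt gs i)) h1 h2 h3 hpack hforms h4 h5
    (nodup_of_sep hsep) h6 hlen hG

theorem not_dvd_two (hσ : Cfsg.IsStemExtension σ) : ¬ 2 ∣ Nat.card σ.ker := by
  have : Fact (Nat.Prime 2) := ⟨Nat.prime_two⟩
  exact not_dvd two_rel two_sep two_rest.1 two_packed (checkForms_of_fast two_forms) two_rest.2
    (factorization_eq Nat.prime_two (show 898128000 = 2 ^ 7 * 7016625 by norm_num) (by norm_num)) hσ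

theorem not_dvd_five (hσ : Cfsg.IsStemExtension σ) : ¬ 5 ∣ Nat.card σ.ker := by
  have : Fact (Nat.Prime 5) := ⟨Nat.prime_five⟩
  exact not_dvd five_rel five_sep five_rest.1 five_packed (checkForms_of_fast five_forms) five_rest.2
    (factorization_eq Nat.prime_five (show 898128000 = 5 ^ 3 * 7185024 by norm_num) (by norm_num)) hσ

theorem sq_not_dvd_three (hσ : Cfsg.IsStemExtension σ) : ¬ 3 ^ 2 ∣ Nat.card σ.ker := by
  have : Fact (Nat.Prime 3) := ⟨Nat.prime_three⟩
  obtain ⟨h1, h2, h3, h4, h5, h6⟩ := rel_facts three_rel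
  exact sq_not_dvd_card_ker_mod hσ.1 hσ.2.1 hσ.2.2 three three_rest.1 _
    (fun i => X (lt threeConjugators i)) h1 h2 h3 three_packed (checkForms_of_fast three_forms) h4 h5
    (nodup_of_sep three_sep) h6 three_rest.2
    (factorization_eq Nat.prime_three (show 898128000 = 3 ^ 6 * 1232000 by norm_num) (by norm_num))

/-- The kernel of a stem extension has order dividing 3. -/
theorem prime_bound (hσ : Cfsg.IsStemExtension σ) (r : ℕ) (hr : r.Prime) :
    ¬ r ^ 2 ∣ Nat.card σ.ker ∧ (r ∣ Nat.card σ.ker → r ∣ 3) := by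
  by_cases h3 : r = 3
  · subst h3; exact ⟨sq_not_dvd_three hσ, fun _ => dvd_rfl⟩
  suffices h : ¬ r ∣ Nat.card σ.ker from
    ⟨fun hd => h ((dvd_pow_self r two_ne_zero).trans hd), fun hd => absurd hd h⟩
  by_cases h2 : r = 2
  · subst h2; exact not_dvd_two hσ
  by_cases h5 : r = 5
  · subst h5; exact not_dvd_five hσ
  have := Fact.mk hr
  refine SchurBound.not_dvd_card_ker_of_sq_not_dvd σ hσ.1 hσ.2.1 hσ.2.2 fun hsq => ?_
  rw [card_mcl, show (898128000 : ℕ) = 2 ^ 7 * (3 ^ 6 * (5 ^ 3 * (7 * 11))) by norm_num] at hsq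
  have c2 := Nat.Coprime.pow 2 7 ((Nat.coprime_primes hr Nat.prime_two).2 h2)
  have c3 := Nat.Coprime.pow 2 6 ((Nat.coprime_primes hr Nat.prime_three).2 h3)
  have c5 := Nat.Coprime.pow 2 3 ((Nat.coprime_primes hr Nat.prime_five).2 h5)
  have h' := c5.dvd_of_dvd_mul_left (c3.dvd_of_dvd_mul_left (c2.dvd_of_dvd_mul_left hsq))
  have hsf : Squarefree (7 * 11 : ℕ) := by decide +kernel
  exact hr.ne_one (Nat.isUnit_iff.1 (hsf r (by rwa [← sq])))

end CfsgLib.SchurMcL
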