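import Cfsg.Agent.Lib.Schur.McL.Exist
import Cfsg.Agent.Lib.Schur.McL.Upper
import Cfsg.Agent.Lib.SchurPerm.Stem

/-!
The multiplier of McL is cyclic of order 3.
-/

set_option autoImplicit false

namespace CfsgLib.SchurMcL

open Cfsg CfsgLib.FusionCertN

/-- The multiplier. -/
theorem hasCyclic_three : Cfsg.HasCyclicSchurMultiplier Cfsg.Spor.McL 3 := by
  obtain ⟨e⟩ := McL.nonempty_mcl_equiv
  refine SchurPerm.hasCyclic_congr e.symm (SchurBound.hasCyclic_of_squarefree ?_ exists_stem_three
    fun Γ _ _ σ hσ r hr => prime_bound hσ r hr)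
  exact Nat.prime_three.prime.squarefree

end CfsgLib.SchurMcL
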